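import Mathlib

/-!
# From a dimension bound to a Jacobian minor
-/

set_option linter.style.haveILetI false

universe u v

open TensorProduct

namespace Groth.Agent.H4NagJac

variable {k A : Type u} [CommRing k] [CommRing A] [Algebra k A] (L : Type u) [Field L] [Algebra A L]

/-- The span of the differentials of the elements of an ideal, in `L ⊗ Ω`. -/
noncomputable def imD (k : Type v) [CommRing k] [Algebra k A] (p : Ideal A) : Submodule L (L ⊗[A] Ω[A⁄k]) :=
  Submodule.span L ((fun g => (1 : L) ⊗ₜ[A] KaehlerDifferential.D k A g) '' (p : Set A))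

/-- The vectors orthogonal to the Jacobian rows of the elements of an ideal. -/
noncomputable def orthD {ι : Type u} [Fintype ι] (p : Ideal A) (D : ι → Derivation k A A) :
    Submodule L (ι → L) where
  carrier := {v | ∀ g ∈ p, ∑ j, algebraMap A L (D j g) * v j = 0}
  add_mem' := fun {a b} ha hb g hg => by
    simp only [Pi.add_apply, mul_add, Finset.sum_add_distrib]
    rw [ha g hg, hb g hg, add_zero]
  zero_mem' := fun g _ => by simp
  smul_mem' := fun c v hv g hg => by
    simp only [Pi.smul_apply, smul_eq_mul, mul_left_comm _ c, ← Finset.mul_sum]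
    rw [hv g hg, mul_zero]

theorem exists_det_ne_zero {F : Type u} [Field F] {ι : Type u} [Fintype ι] {m : ℕ} (r : Fin m → ι → F)
    (hr : LinearIndependent F r) : ∃ σ : Fin m → ι, Matrix.det (Matrix.of fun i j => r j (σ i)) ≠ 0 := by
  classical
  let N : Matrix (Fin m) ι F := Matrix.of r
  have hN : LinearIndependent F N.row := hr
  have hNrank : N.rank = m := by
    rw [Matrix.rank_eq_finrank_span_row, finrank_span_eq_card hN, Fintype.card_fin]
  obtain ⟨κ, a, hainj, haspan, hali⟩ := exists_linearIndependent' F N.col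
  haveI : Fintype κ := Fintype.ofInjective a hainj
  have hκ : Fintype.card κ = m := by
    rw [← finrank_span_eq_card hali, haspan, ← Matrix.rank_eq_finrank_span_cols, hNrank]
  let e : Fin m ≃ κ := (Fintype.equivFinOfCardEq hκ).symm
  refine ⟨a ∘ e, ?_⟩
  have hu : IsUnit (Matrix.of fun (i j : Fin m) => N i (a (e j))) := by
    rw [← Matrix.linearIndependent_cols_iff_isUnit]
    exact hali.comp e e.injective
  rw [Matrix.isUnit_iff_isUnit_det, isUnit_iff_ne_zero] at hu
  rw [← Matrix.det_transpose]
  exact hu

theorem injective_of_orth_bound {F W : Type u} [Field F] [AddCommGroup W] [Module F W] [Module.Finite F W]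
    {ι : Type u} [Fintype ι] (Λ : W →ₗ[F] (ι → F)) (O : Submodule F (ι → F))
    (hO : ∀ v : ι → F, (∀ z, ∑ j, Λ z j * v j = 0) → v ∈ O)
    (hdim : Module.finrank F O + Module.finrank F W ≤ Fintype.card ι) : Function.Injective Λ := by
  classical
  let T : (ι → F) →ₗ[F] Module.Dual F W :=
    { toFun := fun v => (∑ j, v j • LinearMap.proj j : (ι → F) →ₗ[F] F).comp Λ
      map_add' := fun a b => LinearMap.ext fun z => by simp [add_mul, Finset.sum_add_distrib]
      map_smul' := fun c a => LinearMap.ext fun z => by simp [mul_assoc, ← Finset.mul_sum] }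
  have hT : ∀ v z, T v z = ∑ j, Λ z j * v j := fun v z => by simp [T, mul_comm]
  have hker : LinearMap.ker T ≤ O := fun v hv => hO v fun z => by
    rw [← hT, LinearMap.mem_ker.mp hv, LinearMap.zero_apply]
  have hsurj : LinearMap.range T = ⊤ := by
    refine Submodule.eq_top_of_finrank_eq (le_antisymm (Submodule.finrank_le _) ?_)
    have h1 := T.finrank_range_add_finrank_ker
    have h2 := Submodule.finrank_mono hker
    rw [Module.finrank_fintype_fun_eq_card] at h1
    rw [Subspace.dual_finrank_eq]
    omega
  rw [injective_iff_map_eq_zero]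
  intro z hz
  refine (Module.forall_dual_apply_eq_zero_iff F z).mp fun φ => ?_
  obtain ⟨v, rfl⟩ := LinearMap.range_eq_top.mp hsurj φ
  rw [hT, hz]
  simp

theorem exists_minor_of_orth {ι : Type u} [Fintype ι] (p : Ideal A)
    (hp' : ∀ a ∈ p, algebraMap A L a = 0)
    (D : ι → Derivation k A A) {m : ℕ} (f : Fin m → A) (hfp : ∀ i, f i ∈ p)
    (hli : LinearIndependent L fun i => (1 : L) ⊗ₜ[A] KaehlerDifferential.D k A (f i))
    [Module.Finite L (imD L k p)]
    (hdim : Module.finrank L (orthD L p D) + Module.finrank L (imD L k p) ≤ Fintype.card ι) :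
    ∃ σ : Fin m → ι, Matrix.det (Matrix.of fun i j => D (σ i) (f j)) ∉ p := by
  classical
  let Λ : L ⊗[A] Ω[A⁄k] →ₗ[L] (ι → L) := LinearMap.pi fun j =>
    LinearMap.liftBaseChange L ((Algebra.linearMap A L).comp (D j).liftKaehlerDifferential)
  have hΛ : ∀ g j, Λ ((1 : L) ⊗ₜ[A] KaehlerDifferential.D k A g) j = algebraMap A L (D j g) := fun g j => by
    simp [Λ]
  have hinj : Function.Injective (Λ.comp (imD L k p).subtype) := by
    refine injective_of_orth_bound (F := L) (W := ↥(imD L k p)) (Λ.comp (imD L k p).subtype) (orthD L p D)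
      (fun v hv g hg => ?_) hdim
    have h := hv ⟨_, Submodule.subset_span ⟨g, hg, rfl⟩⟩
    simp only [LinearMap.comp_apply, Submodule.subtype_apply, hΛ] at h
    exact h
  have hrows : LinearIndependent L fun i => fun j => algebraMap A L (D j (f i)) := by
    rw [Fintype.linearIndependent_iff]
    intro c hc
    set z := ∑ i, c i • ((1 : L) ⊗ₜ[A] KaehlerDifferential.D k A (f i)) with hz
    have hmem : z ∈ imD L k p :=
      Submodule.sum_mem _ fun i _ => Submodule.smul_mem _ _ (Submodule.subset_span ⟨f i, hfp i, rfl⟩)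
    have hΛz : Λ z = 0 := by
      rw [hz, map_sum, ← hc]
      refine Finset.sum_congr rfl fun i _ => ?_
      rw [map_smul]
      exact congrArg (c i • ·) (funext fun j => hΛ (f i) j)
    have h0 : (Λ.comp (imD L k p).subtype) ⟨z, hmem⟩ = (Λ.comp (imD L k p).subtype) 0 := by
      rw [map_zero]
      exact hΛz
    exact Fintype.linearIndependent_iff.mp hli c (congrArg Subtype.val (hinj h0))
  obtain ⟨σ, hσ⟩ := exists_det_ne_zero _ hrows
  refine ⟨σ, fun h => hσ ?_⟩
  rw [show (Matrix.of fun i j => algebraMap A L (D (σ i) (f j))) =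
    (algebraMap A L).mapMatrix (Matrix.of fun i j => D (σ i) (f j)) from rfl, ← RingHom.map_det]
  exact hp' _ h

end Groth.Agent.H4NagJac
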