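import Groth.Agent.H4NagJac.Minor
import Mathlib

/-!
# The criterion and the openness of the smooth locus
-/

set_option linter.style.haveILetI false

universe u

open IsLocalRing

namespace Groth.Agent.H4NagJac

variable (p : ℕ) {k K₀ A : Type u} [Field k] [ExpChar k p]
    (hk : p = 1 ∨ Module.Finite (frobenius k p).fieldRange k)
    [Field K₀] [Algebra k K₀] [Algebra.IsGeometricallyReduced k K₀]
    [CommRing A] [IsLocalRing A] [IsNoetherianRing A] [IsAdicComplete (maximalIdeal A) A]
    [Algebra k A] [Algebra K₀ A] [IsScalarTower k K₀ A] [Module.Finite K₀ (ResidueField A)]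
    (hA : CAlgX.IsAdicFormallySmooth K₀ A (maximalIdeal A))

include hk hA in
theorem isAdicFormallySmooth_iff_det (q 𝔭 : Ideal A) [𝔭.IsPrime] (hq : q ≤ 𝔭) (p' : Ideal (A ⧸ q)) [p'.IsPrime]
    (hp' : p'.comap (Ideal.Quotient.mk q) = 𝔭) :
    CAlgX.IsAdicFormallySmooth k (Localization.AtPrime p') (maximalIdeal (Localization.AtPrime p')) ↔
      ∃ (m : ℕ) (D : Fin m → Derivation k A A) (f : Fin m → A), (∀ i, f i ∈ q) ∧
        q.map (algebraMap A (Localization.AtPrime 𝔭)) = Ideal.span (Set.range fun i => algebraMap A (Localization.AtPrime 𝔭) (f i)) ∧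
        Matrix.det (Matrix.of fun i j => D i (f j)) ∉ 𝔭 := by
  haveI := EGA41Lib.FieldFS.formallySmooth_of_isGeometricallyReduced k K₀
  have hloc := Groth.Agent.S4574.result (AdicFS4.isAdicFormallySmooth_comp (Λ := k) hA) 𝔭
  obtain ⟨π, hπ, hker⟩ := exists_localAlgHom (k := k) q 𝔭 p' hp'
  constructor
  · intro h
    haveI : IsNoetherianRing (Localization.AtPrime 𝔭) := IsLocalization.isNoetherianRing 𝔭.primeCompl _ inferInstance
    haveI : IsNoetherianRing (Localization.AtPrime p') := IsLocalization.isNoetherianRing p'.primeCompl _ inferInstance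
    haveI : IsRegularLocalRing (Localization.AtPrime 𝔭) := isRegularLocalRing_of_fs hloc
    haveI : IsRegularLocalRing (Localization.AtPrime p') := isRegularLocalRing_of_fs h
    haveI : IsRegularLocalRing (Localization.AtPrime 𝔭 ⧸ q.map (algebraMap A (Localization.AtPrime 𝔭))) :=
      IsRegularLocalRing.of_ringEquiv (R := Localization.AtPrime p')
        (R' := Localization.AtPrime 𝔭 ⧸ q.map (algebraMap A (Localization.AtPrime 𝔭)))
        ((RingHom.quotientKerEquivOfSurjective (f := π.toRingHom) hπ).symm.trans (Ideal.quotEquivOfEq hker))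
    have hI : q.map (algebraMap A (Localization.AtPrime 𝔭)) ≤ maximalIdeal (Localization.AtPrime 𝔭) := by
      rw [← Localization.AtPrime.map_eq_maximalIdeal]
      exact Ideal.map_mono hq
    obtain ⟨m, f, hfG, hli, hspan⟩ := exists_indep_span_eq (q.map (algebraMap A (Localization.AtPrime 𝔭)))
      (algebraMap A (Localization.AtPrime 𝔭) '' (q : Set A)) rfl hI
    choose g hgq hg using hfG
    have hind := tmul_D_independent 𝔭 π hπ h g (fun i => hq (hgq i))
      (fun i => hker.ge (Ideal.mem_map_of_mem _ (hgq i))) (by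
        convert hli using 1
        funext i
        exact congrArg _ (Subtype.ext (hg i)))
    obtain ⟨D, hD⟩ := exists_minor_complete p hk hA 𝔭 g (fun i => hq (hgq i)) hind
    exact ⟨m, D, g, hgq, by rw [hspan]; simp only [hg], hD⟩
  · rintro ⟨m, D, f, -, hspan, hdet⟩
    exact fs_of_det 𝔭 π hπ hloc D f (hker.trans hspan) hdet

include hk hA in
theorem isOpen_smoothLocus (q : Ideal A) :
    IsOpen {n : PrimeSpectrum (A ⧸ q) |
      CAlgX.IsAdicFormallySmooth k (Localization.AtPrime n.asIdeal) (maximalIdeal (Localization.AtPrime n.asIdeal))} := by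
  classical
  rw [isOpen_iff_forall_mem_open]
  intro n hn
  have hle : ∀ n' : PrimeSpectrum (A ⧸ q), q ≤ n'.asIdeal.comap (Ideal.Quotient.mk q) := fun n' x hx => by
    show Ideal.Quotient.mk q x ∈ n'.asIdeal
    rw [Ideal.Quotient.eq_zero_iff_mem.2 hx]
    exact zero_mem _
  obtain ⟨m, D, f, hfq, hspan, hdet⟩ :=
    (isAdicFormallySmooth_iff_det p hk hA q _ (hle n) n.asIdeal rfl).1 hn
  obtain ⟨r, g, hg⟩ := Submodule.fg_iff_exists_fin_generating_family.1 (IsNoetherian.noetherian q)
  have hmem : ∀ i, ∃ t ∈ (n.asIdeal.comap (Ideal.Quotient.mk q)).primeCompl, t * g i ∈ Ideal.span (Set.range f) := by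
    intro i
    have h1 : algebraMap A (Localization.AtPrime (n.asIdeal.comap (Ideal.Quotient.mk q))) (g i) ∈
        (Ideal.span (Set.range f)).map (algebraMap A _) := by
      rw [Ideal.map_span, ← Set.range_comp]
      exact hspan.le (Ideal.mem_map_of_mem _ (hg ▸ Submodule.subset_span ⟨i, rfl⟩))
    rwa [IsLocalization.algebraMap_mem_map_algebraMap_iff (n.asIdeal.comap (Ideal.Quotient.mk q)).primeCompl] at h1
  choose t ht htg using hmem
  let u := Matrix.det (Matrix.of fun i j => D i (f j)) * ∏ i, t i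
  have hu : ∀ n' : PrimeSpectrum (A ⧸ q), n' ∈ PrimeSpectrum.basicOpen (Ideal.Quotient.mk q u) ↔
      Matrix.det (Matrix.of fun i j => D i (f j)) ∉ n'.asIdeal.comap (Ideal.Quotient.mk q) ∧
        ∀ i, t i ∉ n'.asIdeal.comap (Ideal.Quotient.mk q) := fun n' => by
    show u ∉ n'.asIdeal.comap (Ideal.Quotient.mk q) ↔ _
    constructor
    · exact fun h => ⟨fun h' => h (Ideal.mul_mem_right _ _ h'),
        fun i h' => h (Ideal.mul_mem_left _ _ (Ideal.IsPrime.prod_mem_iff.2 ⟨i, Finset.mem_univ i, h'⟩))⟩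
    · rintro ⟨h1, h2⟩ h
      rcases (inferInstance : (n'.asIdeal.comap (Ideal.Quotient.mk q)).IsPrime).mem_or_mem h with h | h
      · exact h1 h
      · obtain ⟨i, -, hi⟩ := Ideal.IsPrime.prod_mem_iff.1 h
        exact h2 i hi
  refine ⟨PrimeSpectrum.basicOpen (Ideal.Quotient.mk q u), fun n' hn' => ?_, PrimeSpectrum.isOpen_basicOpen,
    (hu n).2 ⟨hdet, ht⟩⟩
  obtain ⟨h1, h2⟩ := (hu n').1 hn'
  refine (isAdicFormallySmooth_iff_det p hk hA q _ (hle n') n'.asIdeal rfl).2 ⟨m, D, f, hfq, le_antisymm ?_ ?_, h1⟩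
  · rw [Ideal.map_le_iff_le_comap]
    refine hg.symm.le.trans (Submodule.span_le.2 ?_)
    rintro _ ⟨i, rfl⟩
    have h3 : algebraMap A (Localization.AtPrime (n'.asIdeal.comap (Ideal.Quotient.mk q))) (g i) ∈
        (Ideal.span (Set.range f)).map (algebraMap A _) := by
      rw [IsLocalization.algebraMap_mem_map_algebraMap_iff (n'.asIdeal.comap (Ideal.Quotient.mk q)).primeCompl]
      exact ⟨t i, h2 i, htg i⟩
    rw [Ideal.map_span, ← Set.range_comp] at h3
    exact h3
  · rw [Ideal.span_le]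
    rintro _ ⟨i, rfl⟩
    exact Ideal.mem_map_of_mem _ (hfq i)

end Groth.Agent.H4NagJac
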