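import Groth.Agent.H4NagJac.Core
import Groth.Agent.AdicFS4.Rel
import Groth.Agent.AdicFS4.Split
import Groth.Agent.S2476
import Groth.Agent.CplKaehler4.Gen
import Mathlib

/-!
# Derivations of a complete formally smooth algebra
-/

set_option linter.style.haveILetI false

universe u

open IsLocalRing

namespace Groth.Agent.H4NagJac

/-- A derivation of the base field extends to a formally smooth complete algebra. -/
theorem exists_derivation_extend_complete {k K₀ A : Type u} [CommRing k] [CommRing K₀] [CommRing A] [IsLocalRing A]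
    [Algebra k K₀] [Algebra K₀ A] [Algebra k A] [IsScalarTower k K₀ A] [IsAdicComplete (maximalIdeal A) A]
    (hA : CAlgX.IsAdicFormallySmooth K₀ A (maximalIdeal A)) (δ : Derivation k K₀ K₀) :
    ∃ E : Derivation k A A, ∀ c, E (algebraMap K₀ A c) = algebraMap K₀ A (δ c) := by
  classical
  let m := maximalIdeal A
  have hfs : ∀ n : ℕ, CAlgX.IsAdicFormallySmooth K₀ A (m ^ (n + 1)) := by
    intro n E _ _ J hJ ψ ⟨N, hN⟩
    exact hA E J hJ ψ ⟨(n + 1) * N, fun x hx => hN x (by rwa [← pow_mul])⟩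
  let δ' : ∀ n : ℕ, Derivation k K₀ (A ⧸ m ^ (n + 1)) := fun n =>
    (Algebra.linearMap K₀ (A ⧸ m ^ (n + 1))).compDer δ
  have hex : ∀ n, ∃ D : Derivation k A (A ⧸ m ^ (n + 1)), ∀ a, D (algebraMap K₀ A a) = δ' n a := fun n =>
    AdicFS4.exists_derivation_extend (Λ := k) (hfs n) (A ⧸ m ^ (n + 1)) (δ' n)
  let fac : ∀ n, A ⧸ m ^ (n + 1 + 1) →ₐ[A] A ⧸ m ^ (n + 1) := fun n =>
    Ideal.Quotient.factorₐ A (Ideal.pow_le_pow_right (Nat.le_succ _))
  have step : ∀ n (D : {D : Derivation k A (A ⧸ m ^ (n + 1)) // ∀ a, D (algebraMap K₀ A a) = δ' n a}),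
      ∃ D' : {D : Derivation k A (A ⧸ m ^ (n + 1 + 1)) // ∀ a, D (algebraMap K₀ A a) = δ' (n + 1) a},
        ∀ a, fac n (D'.1 a) = D.1 a := by
    rintro n ⟨D, hD⟩
    obtain ⟨D', hD'⟩ := hex (n + 1)
    let G : Derivation k A (A ⧸ m ^ (n + 1)) := (fac n).toLinearMap.compDer D' - D
    have hG0 : ∀ c, G (algebraMap K₀ A c) = 0 := fun c => by
      show fac n (D' (algebraMap K₀ A c)) - D (algebraMap K₀ A c) = 0
      rw [hD', hD]
      exact sub_self _
    let G₀ : Derivation K₀ A (A ⧸ m ^ (n + 1)) := Derivation.mk'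
      { toFun := G
        map_add' := map_add G
        map_smul' := fun c a => by
          rw [Algebra.smul_def, Derivation.leibniz, hG0, smul_zero, add_zero, RingHom.id_apply, algebraMap_smul] }
      fun a b => G.leibniz a b
    obtain ⟨F, hF⟩ := AdicFS4.exists_derivation_lift hA (n + 1 + 1) (M' := A ⧸ m ^ (n + 1 + 1))
      (fun x hx y => by
        rw [Algebra.smul_def, show algebraMap A (A ⧸ m ^ (n + 1 + 1)) x = 0 from Ideal.Quotient.eq_zero_iff_mem.2 hx,
          zero_mul]) (fac n).toLinearMap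
      (Ideal.Quotient.factor_surjective (S := m ^ (n + 1 + 1)) (Ideal.pow_le_pow_right (Nat.le_succ (n + 1)))) G₀
    refine ⟨⟨D' - F.restrictScalars k, fun c => ?_⟩, fun a => ?_⟩
    · show D' (algebraMap K₀ A c) - F (algebraMap K₀ A c) = _
      rw [F.map_algebraMap, sub_zero, hD']
    · show fac n (D' a - F a) = D a
      rw [map_sub]
      show fac n (D' a) - (fac n).toLinearMap (F a) = D a
      rw [hF]
      show fac n (D' a) - (fac n (D' a) - D a) = D a
      rw [sub_sub_cancel]
  let seq : ∀ n, {D : Derivation k A (A ⧸ m ^ (n + 1)) // ∀ a, D (algebraMap K₀ A a) = δ' n a} := fun n =>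
    Nat.rec ⟨(hex 0).choose, (hex 0).choose_spec⟩ (fun n ih => (step n ih).choose) n
  have hseq : ∀ n a, fac n ((seq (n + 1)).1 a) = (seq n).1 a := fun n a => (step n (seq n)).choose_spec a
  choose c hc using fun n a => Ideal.Quotient.mk_surjective ((seq n).1 a)
  have hcompat : ∀ a n, c (n + 1) a - c n a ∈ m ^ (n + 1) := fun a n => by
    rw [← Ideal.Quotient.eq, hc, ← hseq, ← hc (n + 1)]
    rfl
  have hcauchy : ∀ a, ∀ {i j : ℕ}, i ≤ j → c i a ≡ c j a [SMOD (m ^ i • ⊤ : Submodule A A)] := fun a {i j} hij => by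
    rw [SModEq.sub_mem, smul_eq_mul, Ideal.mul_top]
    induction hij with
    | refl => rw [sub_self]; exact Submodule.zero_mem _
    | @step j hij ih =>
      have h2 : c (j + 1) a - c j a ∈ m ^ i := Ideal.pow_le_pow_right (Nat.le_succ_of_le hij) (hcompat a j)
      rw [show c i a - c (j + 1) a = (c i a - c j a) - (c (j + 1) a - c j a) by ring]
      exact sub_mem ih h2
  have hL : ∀ a, ∃ l : A, ∀ n, c n a - l ∈ m ^ (n + 1) := fun a => by
    obtain ⟨l, hl⟩ := IsPrecomplete.prec (inferInstance : IsPrecomplete m A) (f := fun n => c n a) (hcauchy a)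
    refine ⟨l, fun n => ?_⟩
    have h1 := hl (n + 1)
    rw [SModEq.sub_mem, smul_eq_mul, Ideal.mul_top] at h1
    rw [show c n a - l = (c (n + 1) a - l) - (c (n + 1) a - c n a) by ring]
    exact sub_mem h1 (hcompat a n)
  choose lim hlim using hL
  have hlim' : ∀ a n, Ideal.Quotient.mk (m ^ (n + 1)) (lim a) = (seq n).1 a := fun a n => by
    rw [← hc, eq_comm, Ideal.Quotient.eq]
    exact hlim a n
  have heq : ∀ x y : A, (∀ n, Ideal.Quotient.mk (m ^ (n + 1)) x = Ideal.Quotient.mk (m ^ (n + 1)) y) → x = y := by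
    intro x y h
    rw [← sub_eq_zero]
    refine IsHausdorff.haus (inferInstance : IsHausdorff m A) _ fun n => ?_
    rw [SModEq.zero, smul_eq_mul, Ideal.mul_top]
    exact Ideal.pow_le_pow_right (Nat.le_succ n) (Ideal.Quotient.eq.1 (h n))
  refine ⟨Derivation.mk'
    { toFun := lim
      map_add' := fun a b => heq _ _ fun n => by rw [map_add, hlim', hlim', hlim', map_add]
      map_smul' := fun r a => heq _ _ fun n => by
        rw [hlim', Derivation.map_smul, RingHom.id_apply, ← hlim']
        rfl }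
    fun a b => heq _ _ fun n => ?_, fun c => heq _ _ fun n => ?_⟩
  · show Ideal.Quotient.mk (m ^ (n + 1)) (lim (a * b)) = Ideal.Quotient.mk (m ^ (n + 1)) (a • lim b + b • lim a)
    rw [hlim', Derivation.leibniz, map_add, ← hlim' a, ← hlim' b]
    rfl
  · show Ideal.Quotient.mk (m ^ (n + 1)) (lim _) = _
    rw [hlim', (seq n).2]
    rfl

/-- A basis of the derivations over the base of a complete formally smooth algebra. -/
theorem exists_derivation_family {K₀ A : Type u} [Field K₀] [CommRing A] [IsLocalRing A] [IsNoetherianRing A]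
    [Algebra K₀ A] [IsAdicComplete (maximalIdeal A) A] [Module.Finite K₀ (ResidueField A)]
    (hA : CAlgX.IsAdicFormallySmooth K₀ A (maximalIdeal A)) :
    ∃ (n : ℕ) (D : Fin n → Derivation K₀ A A), ringKrullDim A = n ∧
      ∀ (L : Type u) [Field L] [Algebra A L] (v : Fin n → L),
        (∀ a, ∑ j, v j * algebraMap A L (D j a) = 0) → v = 0 := by
  classical
  haveI : Algebra.EssFiniteType K₀ (ResidueField A) := inferInstance
  obtain ⟨hfin, hfree, hrank⟩ := Groth.Agent.S2476.result hA
  haveI : Module.Finite (ResidueField A) (Ω[ResidueField A⁄K₀]) := inferInstance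
  rw [trdeg_eq_zero (R := K₀) (A := ResidueField A), map_zero, Nat.cast_zero, add_zero] at hrank
  let bb := Module.finBasis A (AdicCompletion (maximalIdeal A) (Ω[A⁄K₀]))
  let D : Fin (Module.finrank A (AdicCompletion (maximalIdeal A) (Ω[A⁄K₀]))) → Derivation K₀ A A := fun j =>
    ((bb.coord j).comp (AdicCompletion.of (maximalIdeal A) (Ω[A⁄K₀]))).compDer (KaehlerDifferential.D K₀ A)
  refine ⟨_, D, hrank.symm, fun L _ _ v hv => ?_⟩
  let φ : AdicCompletion (maximalIdeal A) (Ω[A⁄K₀]) →ₗ[A] L :=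
    ∑ j, (LinearMap.toSpanSingleton A L (v j)).comp (bb.coord j)
  have hφ : ∀ ω, φ ω = ∑ j, v j * algebraMap A L (bb.coord j ω) := fun ω => by
    simp only [φ, LinearMap.sum_apply, LinearMap.comp_apply, LinearMap.toSpanSingleton_apply, Algebra.smul_def,
      mul_comm]
  have h0 : φ = 0 := LinearMap.ext_on (CplKaehler4.span_d K₀ A) (by
    rintro _ ⟨a, rfl⟩
    rw [hφ, LinearMap.zero_apply]
    exact hv a)
  funext i
  have h := LinearMap.congr_fun h0 (bb i)
  rw [hφ, LinearMap.zero_apply, Finset.sum_eq_single i (fun j _ hj => by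
    simp [hj.symm]) (fun h => absurd (Finset.mem_univ i) h)] at h
  simpa using h

end Groth.Agent.H4NagJac
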