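import Groth.Agent.H4NagJac.Core
import Groth.Prelude.Def_EGA41
import Mathlib

/-!
# The rank of the span of the differentials of a prime
-/

set_option linter.style.haveILetI false

universe u v

open IsLocalRing TensorProduct KaehlerDifferential

namespace Groth.Agent.H4NagJac

theorem exists_derivation_fraction {R : Type v} {B S : Type u} [CommRing R] [CommRing B] [CommRing S] [Algebra R B]
    [Algebra R S] [Algebra B S] [IsScalarTower R B S] (M : Submonoid B) [IsLocalization M S] {N : Type u}
    [AddCommGroup N] [Module S N] [Module B N] [IsScalarTower B S N] [Module R N] [IsScalarTower R B N]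
    [IsScalarTower R S N] (d : Derivation R B N) :
    ∃ E : Derivation R S N, ∀ b, E (algebraMap B S b) = d b := by
  haveI := Algebra.FormallyEtale.of_isLocalization (Rₘ := S) M
  refine ⟨((LinearMap.liftBaseChange S d.liftKaehlerDifferential).comp
    (tensorKaehlerEquivOfFormallyEtale R B S).symm.toLinearMap).compDer (KaehlerDifferential.D R S), fun b => ?_⟩
  show LinearMap.liftBaseChange S d.liftKaehlerDifferential
    ((tensorKaehlerEquivOfFormallyEtale R B S).symm (KaehlerDifferential.D R S (algebraMap B S b))) = d b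
  rw [tensorKaehlerEquivOfFormallyEtale_symm_D_algebraMap, LinearMap.liftBaseChange_tmul, one_smul,
    Derivation.liftKaehlerDifferential_comp_D]

theorem derivation_fraction_ext {R : Type v} {B S : Type u} [CommRing R] [CommRing B] [CommRing S] [Algebra R S]
    [Algebra B S] (M : Submonoid B) [IsLocalization M S] {N : Type u} [AddCommGroup N] [Module S N] [Module R N]
    (E E' : Derivation R S N) (h : ∀ b, E (algebraMap B S b) = E' (algebraMap B S b)) : E = E' := by
  refine Derivation.ext fun x => ?_
  obtain ⟨b, s, rfl⟩ := IsLocalization.exists_mk'_eq M x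
  have key : ∀ F : Derivation R S N, algebraMap B S s • F (IsLocalization.mk' S b s) =
      F (algebraMap B S b) - IsLocalization.mk' S b s • F (algebraMap B S s) := fun F => by
    have h1 := F.leibniz (algebraMap B S s) (IsLocalization.mk' S b s)
    rw [mul_comm, IsLocalization.mk'_spec] at h1
    rw [h1]
    abel
  exact (IsLocalization.map_units S s).smul_left_cancel.mp (by rw [key, key, h, h])

variable {A : Type u} [CommRing A]

/-- Elements of a prime spanning it, up to squares and denominators, as many as the embedding dimension. -/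
theorem exists_spanning_family [IsNoetherianRing A] (p : Ideal A) [p.IsPrime] :
    ∃ x : Fin (Module.finrank (ResidueField (Localization.AtPrime p)) (CotangentSpace (Localization.AtPrime p))) → p,
      ∀ g ∈ p, ∃ (t : A) (a : Fin (Module.finrank (ResidueField (Localization.AtPrime p))
          (CotangentSpace (Localization.AtPrime p))) → A),
        t ∉ p ∧ t * g - ∑ z, a z * (x z : A) ∈ p ^ 2 := by
  classical
  set R := Localization.AtPrime p with hR
  haveI : IsNoetherianRing R := IsLocalization.isNoetherianRing p.primeCompl _ inferInstance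
  let mk' : p → maximalIdeal R := fun g =>
    ⟨algebraMap A R g, (IsLocalization.AtPrime.to_map_mem_maximal_iff _ p _).mpr g.2⟩
  let v : p → CotangentSpace R := fun g => (maximalIdeal R).toCotangent (mk' g)
  have hvspan : Submodule.span (ResidueField R) (Set.range v) = ⊤ := by
    refine eq_top_iff.mpr fun x _ => ?_
    obtain ⟨⟨x, hx⟩, rfl⟩ := Ideal.toCotangent_surjective _ x
    obtain ⟨a, t, hat⟩ := IsLocalization.exists_mk'_eq p.primeCompl x
    have ha : a ∈ p := by
      rw [← IsLocalization.AtPrime.to_map_mem_maximal_iff R p, ← IsLocalization.mk'_spec R a t, hat]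
      exact Ideal.mul_mem_right _ _ hx
    have : (⟨x, hx⟩ : maximalIdeal R) = IsLocalization.mk' R 1 t • mk' ⟨a, ha⟩ := Subtype.ext (by
      show x = IsLocalization.mk' R 1 t * algebraMap A R a
      rw [← hat, mul_comm, IsLocalization.mul_mk'_eq_mk'_of_mul, mul_one])
    rw [this, map_smul]
    exact Submodule.smul_mem _ (residue R (IsLocalization.mk' R 1 t)) (Submodule.subset_span (Set.mem_range_self (f := v) ⟨a, ha⟩))
  obtain ⟨b, hbsub, hbspan, hbli⟩ := exists_linearIndependent (ResidueField R) (Set.range v)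
  rw [hvspan] at hbspan
  haveI : Fintype b := hbli.setFinite.fintype
  have hcard : Fintype.card b = Module.finrank (ResidueField R) (CotangentSpace R) := by
    rw [← finrank_top, ← hbspan, finrank_span_set_eq_card hbli, Set.toFinset_card]
  let e := (Fintype.equivFinOfCardEq hcard).symm
  choose x hx using fun z => hbsub (e z).2
  refine ⟨x, fun g hg => ?_⟩
  obtain ⟨c, hc⟩ := (Submodule.mem_span_range_iff_exists_fun _).mp
    (show v ⟨g, hg⟩ ∈ Submodule.span (ResidueField R) (Set.range fun z => (e z : CotangentSpace R)) by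
      rw [show Set.range (fun z => (e z : CotangentSpace R)) = b by
        ext y; exact ⟨by rintro ⟨i, rfl⟩; exact (e i).2, fun hy => ⟨e.symm ⟨y, hy⟩, by simp⟩⟩, hbspan]
      trivial)
  choose γ hγ using fun z => residue_surjective (c z)
  have h1 : (maximalIdeal R).toCotangent (mk' ⟨g, hg⟩ - ∑ z, γ z • mk' (x z)) = 0 := by
    rw [map_sub, map_sum, sub_eq_zero]
    refine hc.symm.trans (Finset.sum_congr rfl fun z _ => ?_)
    rw [map_smul, ← hγ z]
    exact congrArg (fun y => residue R (γ z) • y) (hx z).symm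
  rw [Ideal.toCotangent_eq_zero] at h1
  obtain ⟨t, ht⟩ := IsLocalization.exist_integer_multiples p.primeCompl Finset.univ γ
  choose a ha using fun z => ht z (Finset.mem_univ z)
  have h2 : algebraMap A R ((t : A) * g - ∑ z, a z * (x z : A)) ∈ (p ^ 2).map (algebraMap A R) := by
    rw [Ideal.map_pow, Localization.AtPrime.map_eq_maximalIdeal, map_sub, map_mul, map_sum]
    convert Ideal.mul_mem_left _ (algebraMap A R t) h1 using 1
    have hsumc : ((mk' ⟨g, hg⟩ - ∑ z, γ z • mk' (x z) : maximalIdeal R) : R) =
        algebraMap A R g - ∑ z, γ z * algebraMap A R (x z : A) := by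
      rw [Submodule.coe_sub, Submodule.coe_sum]
      rfl
    rw [hsumc, mul_sub, Finset.mul_sum]
    congr 1
    refine Finset.sum_congr rfl fun z _ => ?_
    rw [map_mul, ha, Algebra.smul_def]
    ring
  rw [IsLocalization.algebraMap_mem_map_algebraMap_iff p.primeCompl] at h2
  obtain ⟨t', ht', hmem⟩ := h2
  refine ⟨t' * t, fun z => t' * a z, fun h => (‹p.IsPrime›.mem_or_mem h).elim ht' t.2, ?_⟩
  have heq : t' * (t : A) * g - ∑ z, t' * a z * (x z : A) = t' * ((t : A) * g - ∑ z, a z * (x z : A)) := by
    rw [mul_sub, Finset.mul_sum, mul_assoc]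
    exact congrArg _ (Finset.sum_congr rfl fun z _ => mul_assoc _ _ _)
  rw [heq]
  exact hmem

variable (L : Type u) [Field L] [Algebra A L]

theorem finrank_imD_int_le [IsNoetherianRing A] (p : Ideal A) [p.IsPrime]
    (hp : ∀ a, algebraMap A L a = 0 ↔ a ∈ p) :
    Module.Finite L (imD L ℤ p) ∧ Module.finrank L (imD L ℤ p) ≤
      Module.finrank (ResidueField (Localization.AtPrime p)) (CotangentSpace (Localization.AtPrime p)) := by
  classical
  obtain ⟨x, hx⟩ := exists_spanning_family p
  let S := Submodule.span L (Set.range fun z => (1 : L) ⊗ₜ[A] KaehlerDifferential.D ℤ A (x z : A))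
  have hsmul : ∀ (a : A) (y : Ω[A⁄ℤ]), (1 : L) ⊗ₜ[A] (a • y) = algebraMap A L a • ((1 : L) ⊗ₜ[A] y) := fun a y => by
    rw [TensorProduct.tmul_smul, algebraMap_smul]
  have hsq : ∀ g ∈ p ^ 2, (1 : L) ⊗ₜ[A] KaehlerDifferential.D ℤ A g = 0 := fun g hg => by
    rw [pow_two] at hg
    refine Submodule.mul_induction_on hg (fun a ha c hc => ?_) fun a c ha hc => by rw [map_add, tmul_add, ha, hc, add_zero]
    rw [Derivation.leibniz, tmul_add, hsmul, hsmul, (hp a).mpr ha, (hp c).mpr hc, zero_smul, zero_smul, add_zero]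
  have hle : imD L ℤ p ≤ S := by
    rw [imD, Submodule.span_le]
    rintro _ ⟨g, hg, rfl⟩
    obtain ⟨t, a, ht, hta⟩ := hx g hg
    have h1 := hsq _ hta
    rw [map_sub, map_sum, tmul_sub, sub_eq_zero, tmul_sum] at h1
    rw [Derivation.leibniz, tmul_add, hsmul, hsmul, (hp g).mpr hg, zero_smul, add_zero] at h1
    refine (Submodule.smul_mem_iff S (mt (hp t).mp ht)).mp ?_
    rw [h1]
    refine Submodule.sum_mem _ fun z _ => ?_
    rw [Derivation.leibniz, tmul_add, hsmul, hsmul, (hp _).mpr (x z).2, zero_smul, add_zero]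
    exact S.smul_mem _ (Submodule.subset_span ⟨z, rfl⟩)
  haveI : Module.Finite L S := Module.Finite.span_of_finite L (Set.finite_range _)
  refine ⟨Submodule.finiteDimensional_of_le hle, (Submodule.finrank_mono hle).trans ?_⟩
  exact (finrank_range_le_card _).trans_eq (Fintype.card_fin _)

theorem ker_mapBaseChange_le (p : Ideal A) (_hp : ∀ a, algebraMap A L a = 0 ↔ a ∈ p)
    [Algebra (A ⧸ p) L] [IsScalarTower A (A ⧸ p) L] [IsFractionRing (A ⧸ p) L] :
    LinearMap.ker (mapBaseChange ℤ A L) ≤ imD L ℤ p := by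
  classical
  intro z hz
  let Q := (L ⊗[A] Ω[A⁄ℤ]) ⧸ imD L ℤ p
  let dA : Derivation ℤ A Q :=
    (((imD L ℤ p).mkQ.restrictScalars A).comp (TensorProduct.mk A L Ω[A⁄ℤ] 1)).compDer (KaehlerDifferential.D ℤ A)
  have hdA : ∀ g ∈ p, dA g = 0 := fun g hg =>
    (Submodule.Quotient.mk_eq_zero _).mpr (Submodule.subset_span ⟨g, hg, rfl⟩)
  haveI : IsScalarTower (A ⧸ p) L Q := inferInstance
  haveI : IsScalarTower A (A ⧸ p) Q := IsScalarTower.of_algebraMap_smul fun a q => by
    rw [← algebraMap_smul L (algebraMap A (A ⧸ p) a) q, ← IsScalarTower.algebraMap_apply, algebraMap_smul]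
  let lin : (A ⧸ p) →+ Q := QuotientAddGroup.lift _ (dA.toLinearMap.toAddMonoidHom)
    (fun g hg => hdA g hg)
  have hlin : ∀ a, lin (Ideal.Quotient.mk p a) = dA a := fun a => rfl
  let dB : Derivation ℤ (A ⧸ p) Q := Derivation.mk' lin.toIntLinearMap fun x y => by
    obtain ⟨a, rfl⟩ := Ideal.Quotient.mk_surjective x
    obtain ⟨b, rfl⟩ := Ideal.Quotient.mk_surjective y
    simp only [AddMonoidHom.coe_toIntLinearMap]
    rw [← map_mul, hlin, hlin, hlin, Derivation.leibniz, ← algebraMap_smul (A ⧸ p) a, ← algebraMap_smul (A ⧸ p) b]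
    rfl
  obtain ⟨E, hE⟩ := exists_derivation_fraction (S := L) (nonZeroDivisors (A ⧸ p)) dB
  let ψ : Ω[L⁄ℤ] →ₗ[L] Q := E.liftKaehlerDifferential
  have hψ : ψ ∘ₗ mapBaseChange ℤ A L = (imD L ℤ p).mkQ := by
    refine TensorProduct.AlgebraTensorModule.ext fun l ω => ?_
    rw [show l ⊗ₜ[A] ω = l • ((1 : L) ⊗ₜ[A] ω) by rw [TensorProduct.smul_tmul', smul_eq_mul, mul_one],
      map_smul, map_smul]
    congr 1
    have hω : ω ∈ Submodule.span A (Set.range (KaehlerDifferential.D ℤ A)) :=
      (KaehlerDifferential.span_range_derivation ℤ A).symm ▸ Submodule.mem_top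
    induction hω using Submodule.span_induction with
    | mem y hy =>
      obtain ⟨a, rfl⟩ := hy
      rw [LinearMap.comp_apply, mapBaseChange_tmul, one_smul, KaehlerDifferential.map_D]
      show E.liftKaehlerDifferential (KaehlerDifferential.D ℤ L (algebraMap A L a)) = _
      rw [Derivation.liftKaehlerDifferential_comp_D, IsScalarTower.algebraMap_apply A (A ⧸ p) L, hE]
      rfl
    | zero => simp
    | add x y _ _ hx hy => rw [tmul_add, map_add, map_add, hx, hy]
    | smul c x _ hx => rw [tmul_smul, LinearMap.map_smul_of_tower, LinearMap.map_smul_of_tower, hx]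
  have h := LinearMap.congr_fun hψ z
  rw [LinearMap.comp_apply, LinearMap.mem_ker.mp hz, map_zero] at h
  exact (Submodule.Quotient.mk_eq_zero _).mp h.symm

theorem finrank_imD_add_imperfection [IsNoetherianRing A] {k : Type u} [Field k] [Algebra k A] [Algebra k L]
    [IsScalarTower k A L] (p : Ideal A) [p.IsPrime] (hp : ∀ a, algebraMap A L a = 0 ↔ a ∈ p)
    [Algebra (A ⧸ p) L] [IsScalarTower A (A ⧸ p) L] [IsFractionRing (A ⧸ p) L]
    (hext : ∀ δ : Derivation ℤ k L, ∃ E : Derivation ℤ A L, ∀ c, E (algebraMap k A c) = δ c) :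
    Module.Finite L (imD L k p) ∧ Module.Finite L (EGA41.imperfection ℤ k L) ∧
      Module.finrank L (imD L k p) + Module.finrank L (EGA41.imperfection ℤ k L) ≤
        Module.finrank (ResidueField (Localization.AtPrime p)) (CotangentSpace (Localization.AtPrime p)) := by
  classical
  obtain ⟨hfin, hle⟩ := finrank_imD_int_le L p hp
  let dk : Derivation ℤ k (L ⊗[A] Ω[A⁄ℤ]) :=
    ((TensorProduct.mk A L Ω[A⁄ℤ] 1).compDer (KaehlerDifferential.D ℤ A)).compAlgebraMap k
  let i : L ⊗[k] Ω[k⁄ℤ] →ₗ[L] L ⊗[A] Ω[A⁄ℤ] := LinearMap.liftBaseChange L dk.liftKaehlerDifferential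
  have hi : ∀ c, i ((1 : L) ⊗ₜ[k] KaehlerDifferential.D ℤ k c) =
      (1 : L) ⊗ₜ[A] KaehlerDifferential.D ℤ A (algebraMap k A c) := fun c => by
    rw [LinearMap.liftBaseChange_tmul, one_smul, Derivation.liftKaehlerDifferential_comp_D]
    rfl
  have hri : (mapBaseChange ℤ A L).comp i = mapBaseChange ℤ k L := by
    refine TensorProduct.AlgebraTensorModule.ext fun l ω => ?_
    rw [show l ⊗ₜ[k] ω = l • ((1 : L) ⊗ₜ[k] ω) by rw [TensorProduct.smul_tmul', smul_eq_mul, mul_one],
      map_smul, map_smul]
    congr 1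
    have hω : ω ∈ Submodule.span k (Set.range (KaehlerDifferential.D ℤ k)) :=
      (KaehlerDifferential.span_range_derivation ℤ k).symm ▸ Submodule.mem_top
    induction hω using Submodule.span_induction with
    | mem y hy =>
      obtain ⟨a, rfl⟩ := hy
      rw [LinearMap.comp_apply, hi, mapBaseChange_tmul, mapBaseChange_tmul, KaehlerDifferential.map_D,
        KaehlerDifferential.map_D, ← IsScalarTower.algebraMap_apply]
    | zero => simp
    | add x y _ _ hx hy => rw [tmul_add, map_add, map_add, hx, hy]
    | smul c x _ hx => rw [tmul_smul, LinearMap.map_smul_of_tower, LinearMap.map_smul_of_tower, hx]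
  have hinj : Function.Injective i := by
    rw [injective_iff_map_eq_zero]
    intro w hw
    refine (Module.forall_dual_apply_eq_zero_iff L w).mp fun lam => ?_
    let δ : Derivation ℤ k L :=
      ((lam.restrictScalars k).comp (TensorProduct.mk k L Ω[k⁄ℤ] 1)).compDer (KaehlerDifferential.D ℤ k)
    obtain ⟨E, hE⟩ := hext δ
    have hfac : (LinearMap.liftBaseChange L E.liftKaehlerDifferential).comp i = lam := by
      refine TensorProduct.AlgebraTensorModule.ext fun l ω => ?_
      rw [show l ⊗ₜ[k] ω = l • ((1 : L) ⊗ₜ[k] ω) by rw [TensorProduct.smul_tmul', smul_eq_mul, mul_one],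
        map_smul, map_smul]
      congr 1
      have hω : ω ∈ Submodule.span k (Set.range (KaehlerDifferential.D ℤ k)) :=
        (KaehlerDifferential.span_range_derivation ℤ k).symm ▸ Submodule.mem_top
      induction hω using Submodule.span_induction with
      | mem y hy =>
        obtain ⟨a, rfl⟩ := hy
        rw [LinearMap.comp_apply, hi, LinearMap.liftBaseChange_tmul, one_smul,
          Derivation.liftKaehlerDifferential_comp_D, hE]
        rfl
      | zero => simp
      | add x y _ _ hx hy => rw [tmul_add, map_add, map_add, hx, hy]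
      | smul c x _ hx => rw [tmul_smul, LinearMap.map_smul_of_tower, LinearMap.map_smul_of_tower, hx]
    rw [← hfac, LinearMap.comp_apply, hw, map_zero]
  let q : L ⊗[A] Ω[A⁄ℤ] →ₗ[L] L ⊗[A] Ω[A⁄k] := (KaehlerDifferential.map ℤ k A A).baseChange L
  have hq : ∀ a, q ((1 : L) ⊗ₜ[A] KaehlerDifferential.D ℤ A a) = (1 : L) ⊗ₜ[A] KaehlerDifferential.D k A a :=
    fun a => by rw [LinearMap.baseChange_tmul, KaehlerDifferential.map_D]; rfl
  have himg : (imD L ℤ p).map q = imD L k p := by
    rw [imD, imD, Submodule.map_span, ← Set.image_comp]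
    exact congrArg _ (Set.image_congr fun a _ => hq a)
  have hqi : ∀ w, q (i w) = 0 := fun w => by
    have : q.comp i = 0 := by
      refine TensorProduct.AlgebraTensorModule.ext fun l ω => ?_
      rw [show l ⊗ₜ[k] ω = l • ((1 : L) ⊗ₜ[k] ω) by rw [TensorProduct.smul_tmul', smul_eq_mul, mul_one],
        map_smul, LinearMap.zero_apply, smul_eq_zero]
      refine Or.inr ?_
      have hω : ω ∈ Submodule.span k (Set.range (KaehlerDifferential.D ℤ k)) :=
        (KaehlerDifferential.span_range_derivation ℤ k).symm ▸ Submodule.mem_top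
      induction hω using Submodule.span_induction with
      | mem y hy =>
        obtain ⟨a, rfl⟩ := hy
        rw [LinearMap.comp_apply, hi, hq, Derivation.map_algebraMap, tmul_zero]
      | zero => simp
      | add x y _ _ hx hy => rw [tmul_add, map_add, hx, hy, add_zero]
      | smul c x _ hx => rw [tmul_smul, LinearMap.map_smul_of_tower, hx, smul_zero]
    exact LinearMap.congr_fun this w
  let U := EGA41.imperfection ℤ k L
  have hUW : ∀ w ∈ U, i w ∈ imD L ℤ p := fun w hw => ker_mapBaseChange_le L p hp (by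
    rw [LinearMap.mem_ker, ← LinearMap.comp_apply, hri]
    exact hw)
  let qW := q.comp (imD L ℤ p).subtype
  let j : U →ₗ[L] LinearMap.ker qW :=
    LinearMap.codRestrict _ (LinearMap.codRestrict _ (i.comp U.subtype) fun w => hUW w.1 w.2) fun w => hqi w.1
  have hj : Function.Injective j := fun a b h =>
    Subtype.ext (hinj (congrArg (fun y : LinearMap.ker qW => ((y : imD L ℤ p) : L ⊗[A] Ω[A⁄ℤ])) h))
  haveI := hfin
  haveI : IsNoetherian L ↥(imD L ℤ p) := @isNoetherian_of_isNoetherianRing_of_finite L ↥(imD L ℤ p) _ (imD L ℤ p).addCommGroup (imD L ℤ p).module _ hfin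
  have hU : Module.Finite L U := Module.Finite.of_injective j hj
  have h1 := LinearMap.finrank_range_add_finrank_ker (K := L) (V := ↥(imD L ℤ p)) (V₂ := L ⊗[A] Ω[A⁄k]) qW
  have h2 : LinearMap.range qW = imD L k p := by rw [LinearMap.range_comp, Submodule.range_subtype, himg]
  have hfk : Module.Finite L (imD L k p) := by
    rw [← h2]
    exact Module.Finite.range qW
  rw [h2] at h1
  have h3 := LinearMap.finrank_le_finrank_of_injective hj
  exact ⟨hfk, hU, by show _ + Module.finrank L ↥U ≤ _; omega⟩

end Groth.Agent.H4NagJac
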