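import Groth.Agent.RegDeriv.Basic
import Groth.Agent.HomDimLib.RegParam
import Mathlib

/-!
# Regular quotients and Jacobian independence
-/

set_option linter.style.haveILetI false

universe u

open IsLocalRing

namespace Groth.Agent.H4NagJac

variable {R : Type u} [CommRing R] [IsRegularLocalRing R]

/-- A regular quotient of a regular local ring is cut out by elements with independent classes in the cotangent
space, chosen among given generators. -/
theorem exists_indep_span_eq (I : Ideal R) (G : Set R) (hG : I = Ideal.span G) (hI : I ≤ maximalIdeal R)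
    [IsRegularLocalRing (R ⧸ I)] :
    ∃ (m : ℕ) (f : Fin m → maximalIdeal R), (∀ i, (f i : R) ∈ G) ∧
      LinearIndependent (ResidueField R) (fun i => (maximalIdeal R).toCotangent (f i)) ∧
      I = Ideal.span (Set.range fun i => (f i : R)) := by
  classical
  let g : G → maximalIdeal R := fun x => ⟨x.1, hI (hG ▸ Ideal.subset_span x.2)⟩
  let v : G → CotangentSpace R := fun x => (maximalIdeal R).toCotangent (g x)
  obtain ⟨b, hbsub, hbspan, hbli⟩ := exists_linearIndependent (ResidueField R) (Set.range v)
  have hbfin : b.Finite := hbli.setFinite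
  haveI : Fintype b := hbfin.fintype
  let e := Fintype.equivFin b
  choose c hc using fun i => hbsub (e.symm i).2
  let f : Fin (Fintype.card b) → maximalIdeal R := fun i => g (c i)
  have hf : (fun i => (maximalIdeal R).toCotangent (f i)) = fun i => (e.symm i : CotangentSpace R) :=
    funext fun i => hc i
  have hli : LinearIndependent (ResidueField R) fun i => (maximalIdeal R).toCotangent (f i) := by
    rw [hf]; exact hbli.comp _ e.symm.injective
  refine ⟨_, f, fun i => (c i).2, hli, ?_⟩
  set J := Ideal.span (Set.range fun i => (f i : R)) with hJ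
  have hJI : J ≤ I := by
    rw [hJ, hG]
    exact Ideal.span_mono (by rintro _ ⟨i, rfl⟩; exact (c i).2)
  have hJm : J ≤ maximalIdeal R := hJI.trans hI
  have hreg : IsRegularLocalRing (R ⧸ J) :=
    (((HomDimLib.regular_and_independent_iff f).mp ⟨‹_›, hli⟩).2 :)
  -- `I` lies in `J + m²`
  have hIJ : I ≤ J ⊔ maximalIdeal R ^ 2 := by
    rw [hG, Ideal.span_le]
    intro x hx
    have : v ⟨x, hx⟩ ∈ Submodule.span (ResidueField R) (Set.range fun i => (maximalIdeal R).toCotangent (f i)) := by
      rw [hf, show Set.range (fun i => (e.symm i : CotangentSpace R)) = b by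
        ext y; exact ⟨by rintro ⟨i, rfl⟩; exact (e.symm i).2, fun hy => ⟨e ⟨y, hy⟩, by simp⟩⟩, hbspan]
      exact Submodule.subset_span ⟨_, rfl⟩
    obtain ⟨a, ha⟩ := (Submodule.mem_span_range_iff_exists_fun _).mp this
    choose a' ha' using fun i => residue_surjective (a i)
    have h2 : (maximalIdeal R).toCotangent (∑ i, a' i • f i - g ⟨x, hx⟩) = 0 := by
      rw [map_sub, map_sum, sub_eq_zero]
      refine Eq.trans (Finset.sum_congr rfl fun i _ => ?_) ha
      rw [map_smul, ← ha' i]
      rfl
    rw [Ideal.toCotangent_eq_zero] at h2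
    refine Submodule.mem_sup.mpr ⟨∑ i, a' i * (f i : R), Ideal.sum_mem _ fun i _ =>
      Ideal.mul_mem_left _ _ (Ideal.subset_span ⟨i, rfl⟩), x - ∑ i, a' i * (f i : R), ?_, by ring⟩
    have h3 := neg_mem h2
    simpa [Submodule.coe_sum, g] using h3
  refine le_antisymm ?_ hJI
  haveI := hreg
  haveI : IsDomain (R ⧸ J) := RegLoc6.isDomain_of_isRegularLocalRing _
  let φ : R ⧸ J →+* R ⧸ I := Ideal.Quotient.factor hJI
  have hφ : Function.Surjective φ := Ideal.Quotient.factor_surjective hJI
  -- embedding dimensions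
  have hspan : (maximalIdeal (R ⧸ J)).spanFinrank ≤ (maximalIdeal (R ⧸ I)).spanFinrank := by
    have hfg := (maximalIdeal (R ⧸ I)).fg_of_isNoetherianRing
    have hfin := Submodule.FG.finite_generators hfg
    choose y hy using fun z : (maximalIdeal (R ⧸ I)).generators => hφ z.1
    have hker : RingHom.ker φ ≤ maximalIdeal (R ⧸ J) ^ 2 := by
      intro z hz
      obtain ⟨x, rfl⟩ := Ideal.Quotient.mk_surjective z
      rw [RingHom.mem_ker, Ideal.Quotient.factor_mk, Ideal.Quotient.eq_zero_iff_mem] at hz
      have := Ideal.mem_map_of_mem (Ideal.Quotient.mk J) (hIJ hz)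
      rwa [Ideal.map_sup, Ideal.map_quotient_self, bot_sup_eq, Ideal.map_pow,
        RegLoc6.map_maximalIdeal_quot] at this
    haveI : IsLocalHom φ := IsLocalHom.of_surjective _ hφ
    have hmap : maximalIdeal (R ⧸ J) = Ideal.comap φ (maximalIdeal (R ⧸ I)) :=
      (eq_maximalIdeal (Ideal.comap_isMaximal_of_surjective φ hφ)).symm
    have hle : maximalIdeal (R ⧸ J) ≤ Ideal.span (Set.range y) ⊔ maximalIdeal (R ⧸ J) ^ 2 := by
      intro z hz
      have h1 : φ z ∈ (Ideal.span (Set.range y)).map φ := by
        rw [Ideal.map_span, ← Set.range_comp, show φ ∘ y = Subtype.val from funext hy, Subtype.range_coe]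
        exact (maximalIdeal (R ⧸ I)).span_generators.ge (hmap.le hz)
      obtain ⟨w, hw, hwz⟩ := (Ideal.mem_map_iff_of_surjective φ hφ).mp h1
      exact Submodule.mem_sup.mpr ⟨w, hw, z - w, hker (by rw [RingHom.mem_ker, map_sub, hwz, sub_self]), by ring⟩
    have heq : maximalIdeal (R ⧸ J) = Ideal.span (Set.range y) := by
      refine le_antisymm (Submodule.le_of_le_smul_of_le_jacobson_bot (IsNoetherian.noetherian _)
        (maximalIdeal_le_jacobson _) (by rwa [smul_eq_mul, ← sq])) (Ideal.span_le.mpr ?_)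
      rintro _ ⟨z, rfl⟩
      rw [hmap, SetLike.mem_coe, Ideal.mem_comap, hy]
      exact (maximalIdeal (R ⧸ I)).span_generators.le (Submodule.subset_span z.2)
    haveI := hfin.to_subtype
    rw [heq]
    refine (Submodule.spanFinrank_span_le_ncard_of_finite (Set.finite_range y)).trans ?_
    rw [← Submodule.FG.generators_ncard hfg, ← Set.image_univ]
    refine (Set.ncard_image_le Set.finite_univ).trans ?_
    rw [Set.ncard_univ, Nat.card_coe_set_eq]
  have hdim : ringKrullDim (R ⧸ J) ≤ ringKrullDim (R ⧸ I) := by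
    rw [← (isRegularLocalRing_iff _).1 hreg, ← (isRegularLocalRing_iff _).1 ‹IsRegularLocalRing (R ⧸ I)›]
    exact_mod_cast hspan
  intro x hx
  by_contra hxJ
  let z : R ⧸ J := Ideal.Quotient.mk J x
  have hz : z ≠ 0 := fun h => hxJ (Ideal.Quotient.eq_zero_iff_mem.mp h)
  have hzφ : Ideal.span {z} ≤ RingHom.ker φ := by
    rw [Ideal.span_singleton_le_iff_mem, RingHom.mem_ker, Ideal.Quotient.factor_mk, Ideal.Quotient.eq_zero_iff_mem]
    exact hx
  have h1 := ringKrullDim_quotient_succ_le_of_nonZeroDivisor (mem_nonZeroDivisors_of_ne_zero hz)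
  have h2 : ringKrullDim (R ⧸ I) ≤ ringKrullDim ((R ⧸ J) ⧸ Ideal.span {z}) :=
    ringKrullDim_le_of_surjective (Ideal.Quotient.lift (Ideal.span {z}) φ (fun w hw => hzφ hw))
      (Ideal.Quotient.lift_surjective_of_surjective _ _ hφ)
  obtain ⟨n, hn⟩ : ∃ n : ℕ, ringKrullDim (R ⧸ I) = n :=
    ⟨_, ((isRegularLocalRing_iff _).1 ‹IsRegularLocalRing (R ⧸ I)›).symm⟩
  have h3 := ((add_le_add h2 (le_refl (1 : WithBot ℕ∞))).trans h1).trans hdim
  rw [hn] at h3
  have h4 : n + 1 ≤ n := by exact_mod_cast h3
  omega

/-- A square Jacobian with determinant outside `p` gives independence at `p`. -/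
theorem indep_localization_of_det {A : Type u} [CommRing A] (p : Ideal A) [p.IsPrime] {m : ℕ} (f : Fin m → A)
    (hf : ∀ i, f i ∈ p) (D : Fin m → A → A) (hadd : ∀ i x y, D i (x + y) = D i x + D i y)
    (hmul : ∀ i x y, D i (x * y) = x * D i y + y * D i x)
    (hdet : Matrix.det (Matrix.of fun i j => D i (f j)) ∉ p)
    (c : Fin m → Localization.AtPrime p)
    (hc : ∑ i, c i * algebraMap A (Localization.AtPrime p) (f i) ∈
      maximalIdeal (Localization.AtPrime p) ^ 2) (i : Fin m) : c i ∈ maximalIdeal (Localization.AtPrime p) := by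
  classical
  obtain ⟨b, hb⟩ := IsLocalization.exist_integer_multiples p.primeCompl Finset.univ c
  choose a ha using fun i => hb i (Finset.mem_univ i)
  have h1 : algebraMap A (Localization.AtPrime p) (∑ i, a i * f i) ∈
      (p ^ 2).map (algebraMap A (Localization.AtPrime p)) := by
    rw [Ideal.map_pow, Localization.AtPrime.map_eq_maximalIdeal, map_sum]
    convert Ideal.mul_mem_left _ (algebraMap A (Localization.AtPrime p) b) hc using 1
    rw [Finset.mul_sum]
    refine Finset.sum_congr rfl fun i _ => ?_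
    rw [map_mul, ha, Algebra.smul_def]
    ring
  rw [IsLocalization.algebraMap_mem_map_algebraMap_iff p.primeCompl] at h1
  obtain ⟨t, ht, htmem⟩ := h1
  rw [Finset.mul_sum] at htmem
  have hsum : ∀ (j : Fin m) (g : Fin m → A), D j (∑ i, g i) = ∑ i, D j (g i) := fun j g =>
    map_sum (AddMonoidHom.mk' (D j) (hadd j)) g Finset.univ
  have hD : ∀ j, ∀ x ∈ p ^ 2, D j x ∈ p := by
    intro j x hx
    rw [pow_two] at hx
    refine Submodule.mul_induction_on hx (fun u hu w hw => ?_) fun u w hu hw => by rw [hadd]; exact add_mem hu hw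
    rw [hmul]
    exact add_mem (Ideal.mul_mem_right _ _ hu) (Ideal.mul_mem_right _ _ hw)
  let M := Matrix.of fun i j => D i (f j)
  let w : Fin m → A := fun i => t * a i
  have hM : ∀ j, M.mulVec w j ∈ p := fun j => by
    have h := hD j _ htmem
    rw [hsum] at h
    have h2 : ∑ i, f i * D j (t * a i) ∈ p := Ideal.sum_mem _ fun i _ => Ideal.mul_mem_right _ _ (hf i)
    have h3 := sub_mem h h2
    rw [← Finset.sum_sub_distrib] at h3
    convert h3 using 1
    show ∑ i, M j i * w i = _
    refine Finset.sum_congr rfl fun i _ => ?_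
    simp only [M, w, Matrix.of_apply, ← mul_assoc]
    rw [hmul]
    ring
  have h4 : M.adjugate.mulVec (M.mulVec w) i ∈ p := by
    simp only [Matrix.mulVec, dotProduct]
    exact Ideal.sum_mem _ fun j _ => Ideal.mul_mem_left _ _ (hM j)
  rw [Matrix.mulVec_mulVec, Matrix.adjugate_mul, Matrix.smul_mulVec, Matrix.one_mulVec, Pi.smul_apply,
    smul_eq_mul] at h4
  have h5 : a i ∈ p := by
    rcases ‹p.IsPrime›.mem_or_mem h4 with h | h
    · exact absurd h hdet
    · exact (‹p.IsPrime›.mem_or_mem h).resolve_left ht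
  have h6 : algebraMap A (Localization.AtPrime p) b * c i ∈ maximalIdeal (Localization.AtPrime p) := by
    rw [← Algebra.smul_def]
    show (b : A) • c i ∈ _
    rw [← ha i, ← Localization.AtPrime.map_eq_maximalIdeal]
    exact Ideal.mem_map_of_mem _ h5
  exact ((maximalIdeal.isMaximal _).isPrime.mem_or_mem h6).resolve_left fun h =>
    (maximalIdeal.isMaximal (Localization.AtPrime p)).ne_top
      (Ideal.eq_top_of_isUnit_mem _ h (IsLocalization.map_units _ b))

end Groth.Agent.H4NagJac
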