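import Groth.Agent.H4NagJac.PSSpan
import Groth.Agent.CartierEq4.Imperf
import Mathlib

/-!
# The differentials over a well chosen kernel field
-/

set_option linter.style.haveILetI false

universe u

open TensorProduct KaehlerDifferential

namespace Groth.Agent.H4NagJac

/-- Imperfection modules in a tower of fields. -/
theorem finrank_imperfection_le (k M L : Type u) [Field k] [Field M] [Field L] [Algebra k M] [Algebra M L]
    [Algebra k L] [IsScalarTower k M L] [Algebra.EssFiniteType M L] [Module.Finite L (EGA41.imperfection ℤ k L)]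
    [Module.Finite L (EGA41.imperfection k M L)] :
    Module.finrank L (EGA41.imperfection ℤ M L) ≤
      Module.finrank L (EGA41.imperfection k M L) + Module.finrank L (EGA41.imperfection ℤ k L) := by
  classical
  let dk : Derivation ℤ k (L ⊗[M] Ω[M⁄ℤ]) :=
    ((TensorProduct.mk M L Ω[M⁄ℤ] 1).compDer (KaehlerDifferential.D ℤ M)).compAlgebraMap k
  let i : L ⊗[k] Ω[k⁄ℤ] →ₗ[L] L ⊗[M] Ω[M⁄ℤ] := LinearMap.liftBaseChange L dk.liftKaehlerDifferential
  let q : L ⊗[M] Ω[M⁄ℤ] →ₗ[L] L ⊗[M] Ω[M⁄k] := (KaehlerDifferential.map ℤ k M M).baseChange L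
  have hker : ∀ z, q z = 0 → ∃ w, i w = z := by
    intro z hz
    obtain ⟨t, rfl⟩ := (lTensor_exact L (exact_mapBaseChange_map ℤ k M) (KaehlerDifferential.map_surjective ℤ k M) z).mp hz
    clear hz
    induction t with
    | zero => exact ⟨0, by simp⟩
    | add a b ha hb =>
      obtain ⟨x, hx⟩ := ha
      obtain ⟨y, hy⟩ := hb
      exact ⟨x + y, by rw [map_add, map_add, hx, hy]⟩
    | tmul l x =>
      induction x with
      | zero => exact ⟨0, by simp⟩
      | add a b ha hb =>
        obtain ⟨x, hx⟩ := ha
        obtain ⟨y, hy⟩ := hb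
        exact ⟨x + y, by rw [tmul_add, map_add, map_add, hx, hy]⟩
      | tmul m ω =>
        refine ⟨(m • l) ⊗ₜ ω, ?_⟩
        rw [LinearMap.liftBaseChange_tmul, LinearMap.lTensor_tmul, mapBaseChange_tmul, tmul_smul, smul_tmul']
        have hω : dk.liftKaehlerDifferential ω = (1 : L) ⊗ₜ[M] KaehlerDifferential.map ℤ ℤ k M ω := by
          have h0 : dk.liftKaehlerDifferential = ((TensorProduct.mk M L Ω[M⁄ℤ] 1).restrictScalars k).comp
              (KaehlerDifferential.map ℤ ℤ k M) := Derivation.liftKaehlerDifferential_unique _ _ (Derivation.ext fun c => by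
            simp [dk])
          exact LinearMap.congr_fun h0 ω
        rw [hω, smul_tmul', smul_eq_mul, mul_one]
  have hri : (mapBaseChange ℤ M L).comp i = mapBaseChange ℤ k L := by
    refine TensorProduct.AlgebraTensorModule.ext fun l ω => ?_
    rw [show l ⊗ₜ[k] ω = l • ((1 : L) ⊗ₜ[k] ω) by rw [TensorProduct.smul_tmul', smul_eq_mul, mul_one],
      map_smul, map_smul]
    congr 1
    have hω : ω ∈ Submodule.span k (Set.range (KaehlerDifferential.D ℤ k)) :=
      (KaehlerDifferential.span_range_derivation ℤ k).symm ▸ Submodule.mem_top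
    induction hω using Submodule.span_induction with
    | mem y hy =>
      obtain ⟨a, rfl⟩ := hy
      simp [i, dk, ← IsScalarTower.algebraMap_apply]
    | zero => simp
    | add x y _ _ hx hy => rw [tmul_add, map_add, map_add, hx, hy]
    | smul c x _ hx => rw [tmul_smul, LinearMap.map_smul_of_tower, LinearMap.map_smul_of_tower, hx]
  let U := EGA41.imperfection ℤ M L
  let V := EGA41.imperfection k M L
  let W := EGA41.imperfection ℤ k L
  have hqU : ∀ z ∈ U, q z ∈ V := by
    intro z hz
    have hcomm : (mapBaseChange k M L).comp q = (KaehlerDifferential.map ℤ k L L).comp (mapBaseChange ℤ M L) := by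
      refine TensorProduct.AlgebraTensorModule.ext fun l ω => ?_
      rw [show l ⊗ₜ[M] ω = l • ((1 : L) ⊗ₜ[M] ω) by rw [TensorProduct.smul_tmul', smul_eq_mul, mul_one],
        map_smul, map_smul]
      congr 1
      have hω : ω ∈ Submodule.span M (Set.range (KaehlerDifferential.D ℤ M)) :=
        (KaehlerDifferential.span_range_derivation ℤ M).symm ▸ Submodule.mem_top
      induction hω using Submodule.span_induction with
      | mem y hy =>
        obtain ⟨a, rfl⟩ := hy
        simp [q]
      | zero => simp
      | add x y _ _ hx hy => rw [tmul_add, map_add, map_add, hx, hy]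
      | smul c x _ hx => rw [tmul_smul, LinearMap.map_smul_of_tower, LinearMap.map_smul_of_tower, hx]
    show mapBaseChange k M L (q z) = 0
    rw [← LinearMap.comp_apply, hcomm, LinearMap.comp_apply, show mapBaseChange ℤ M L z = 0 from hz, map_zero]
  let qU : U →ₗ[L] V := LinearMap.codRestrict _ (q.comp U.subtype) fun z => hqU z.1 z.2
  have hle : LinearMap.ker qU ≤ (W.map i).comap U.subtype := by
    intro z hz
    obtain ⟨w, hw⟩ := hker z.1 (congrArg Subtype.val hz)
    refine ⟨w, ?_, hw⟩
    show mapBaseChange ℤ k L w = 0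
    rw [← hri, LinearMap.comp_apply, hw]
    exact z.2
  haveI hWi : Module.Finite L (W.map i) := Module.Finite.map W i
  haveI : IsNoetherian L ↥(W.map i) :=
    @isNoetherian_of_isNoetherianRing_of_finite L ↥(W.map i) _ (W.map i).addCommGroup (W.map i).module _ hWi
  haveI hk : Module.Finite L ↥((W.map i).comap U.subtype) :=
    Module.Finite.of_injective ((U.subtype.comp ((W.map i).comap U.subtype).subtype).codRestrict (W.map i) fun x => x.2)
      (fun x y h => Subtype.ext (Subtype.ext (congrArg (fun z : ↥(W.map i) => (z : L ⊗[M] Ω[M⁄ℤ])) h)))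
  haveI : Module.Finite L (LinearMap.ker qU) :=
    Module.Finite.of_injective ((U.subtype.comp (LinearMap.ker qU).subtype).codRestrict (W.map i) fun x => hle x.2)
      (fun x y h => Subtype.ext (Subtype.ext (congrArg (fun z : ↥(W.map i) => (z : L ⊗[M] Ω[M⁄ℤ])) h)))
  haveI hUf : Module.Finite L ↥U := (CartierEq4.finite_imperfection ℤ M L).1
  haveI : IsNoetherian L ↥V :=
    @isNoetherian_of_isNoetherianRing_of_finite L ↥V _ V.addCommGroup V.module _ ‹Module.Finite L (EGA41.imperfection k M L)›
  haveI : Module.Finite L (LinearMap.range qU) := Module.Finite.of_injective _ (Submodule.injective_subtype _)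
  have h1 := LinearMap.finrank_range_add_finrank_ker (K := L) (V := ↥U) (V₂ := ↥V) qU
  have h2 : Module.finrank L (LinearMap.range qU) ≤ Module.finrank L V := Submodule.finrank_le _
  have h3 : Module.finrank L (LinearMap.ker qU) ≤ Module.finrank L W := by
    refine ((Submodule.finrank_mono hle).trans ?_).trans (Submodule.finrank_map_le i W)
    exact LinearMap.finrank_le_finrank_of_injective
      (f := (U.subtype.comp ((W.map i).comap U.subtype).subtype).codRestrict (W.map i) fun x => x.2)
      (fun x y h => Subtype.ext (Subtype.ext (congrArg (fun z : ↥(W.map i) => (z : L ⊗[M] Ω[M⁄ℤ])) h)))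
  show Module.finrank L ↥U ≤ Module.finrank L ↥V + Module.finrank L ↥W
  omega

/-- A finite part of the `p`-basis bounding the relative differentials. -/
theorem exists_finset_bound {k K₀ : Type u} [Field k] [Field K₀] [Algebra k K₀] (p : ℕ) [hp : Fact p.Prime]
    [CharP K₀ p] {s : ℕ} (M : Type u) [Field M] [Algebra (MvPowerSeries (Fin s) K₀) M]
    [IsFractionRing (MvPowerSeries (Fin s) K₀) M] [Algebra k M] [IsScalarTower k (MvPowerSeries (Fin s) K₀) M]
    [CharP M p] (B : Set K₀) (hB : EGA41.IsPBasis p k (Subtype.val : B → K₀))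
    {m : ℕ} (b : Fin m → k) (hb : ∀ c : k, ∃ r : Fin m → k, c = ∑ i, r i ^ p * b i)
    (L : Type u) [Field L] [Algebra M L] [Algebra k L] [IsScalarTower k M L] [Module.Finite M L]
    [Module.Finite L (EGA41.imperfection ℤ k L)] :
    ∃ S : Finset B, Module.Finite L (Ω[L⁄kS (s := s) p M B hB S]) ∧
      Module.finrank L (Ω[L⁄kS (s := s) p M B hB S]) ≤
        s + S.card + Module.finrank L (EGA41.imperfection ℤ k L) := by
  classical
  haveI : Algebra.EssFiniteType M L := inferInstance
  obtain ⟨hV, -⟩ := CartierEq4.finite_imperfection k M L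
  obtain ⟨S, hS⟩ := PBasisLib.exists_admissible p (fun S => kS (s := s) p M B hB S) L (kS_antitone (s := s) p M B hB)
    (iInf_kS (s := s) p M B hB b hb)
  obtain ⟨hfM, hleM⟩ := finrank_kaehler_kS_le (s := s) p M B hB S
  let KS := kS (s := s) p M B hB S
  haveI := hfM
  haveI := hV
  obtain ⟨hΩ, hH, heq⟩ := CartierEq4.finrank_kaehler_eq M L
  haveI := hΩ
  rw [trdeg_eq_zero (R := M) (A := L), map_zero, zero_add,
    ← CartierEq4.finrank_imperfection_int] at heq
  let g := mapBaseChange KS M L
  let r : EGA41.imperfection k M L →ₗ[L] LinearMap.ker g :=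
    LinearMap.codRestrict _
      ((((KaehlerDifferential.map k KS M M).restrictScalars M).baseChange L).comp (EGA41.imperfection k M L).subtype)
      fun z => by
        have hcomm : g.comp (((KaehlerDifferential.map k KS M M).restrictScalars M).baseChange L) =
            (KaehlerDifferential.map k KS L L).comp (mapBaseChange k M L) := by
          refine TensorProduct.AlgebraTensorModule.ext fun l ω => ?_
          rw [show l ⊗ₜ[M] ω = l • ((1 : L) ⊗ₜ[M] ω) by rw [TensorProduct.smul_tmul', smul_eq_mul, mul_one],
            map_smul, map_smul]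
          congr 1
          have hω : ω ∈ Submodule.span M (Set.range (KaehlerDifferential.D k M)) :=
            (KaehlerDifferential.span_range_derivation k M).symm ▸ Submodule.mem_top
          induction hω using Submodule.span_induction with
          | mem y hy =>
            obtain ⟨a, rfl⟩ := hy
            simp [g]
          | zero => simp
          | add x y _ _ hx hy => rw [tmul_add, map_add, map_add, hx, hy]
          | smul c x _ hx => rw [tmul_smul, LinearMap.map_smul_of_tower, LinearMap.map_smul_of_tower, hx]
        rw [LinearMap.mem_ker, LinearMap.comp_apply, ← LinearMap.comp_apply g, hcomm, LinearMap.comp_apply,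
          show mapBaseChange k M L ((EGA41.imperfection k M L).subtype z) = 0 from z.2, map_zero]
  have hr : Function.Injective r := by
    rw [injective_iff_map_eq_zero]
    intro z hz
    exact Subtype.ext (hS z.1 z.2 (congrArg Subtype.val hz))
  have e0 := LinearMap.finrank_le_finrank_of_injective hr
  have e1 := g.finrank_range_add_finrank_ker
  rw [Module.finrank_baseChange] at e1
  have hex := (KaehlerDifferential.exact_mapBaseChange_map KS M L).linearMap_ker_eq
  haveI : Module.Finite L (Ω[L⁄KS]) := by
    refine ⟨Submodule.fg_of_fg_map_of_fg_inf_ker (KaehlerDifferential.map KS M L L) (IsNoetherian.noetherian _) ?_⟩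
    rw [top_inf_eq, hex]
    exact (Submodule.fg_top _).1 (Module.Finite.range g).fg_top
  have e2 := (KaehlerDifferential.map KS M L L).finrank_range_add_finrank_ker
  rw [LinearMap.range_eq_top.2 (KaehlerDifferential.map_surjective KS M L), finrank_top, hex] at e2
  have e3 := finrank_imperfection_le k M L
  have e4 : Module.finrank M (Ω[M⁄KS]) ≤ s + S.card := hleM
  change Module.finrank L (LinearMap.range (mapBaseChange KS M L)) + Module.finrank L (LinearMap.ker (mapBaseChange KS M L)) = _ at e1
  change _ ≤ Module.finrank L (LinearMap.ker (mapBaseChange KS M L)) at e0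
  refine ⟨S, inferInstance, ?_⟩
  show Module.finrank L (Ω[L⁄KS]) ≤ _
  omega

end Groth.Agent.H4NagJac
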