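import Groth.Agent.H4NagJac.Indep
import Groth.Agent.CplKaehler4.Base
import Groth.Agent.EGA41Lib.IntDim
import Groth.Agent.LC.GorLoc
import Groth.Agent.LC.GorRows
import Groth.Agent.S5784
import Mathlib

/-!
# The rank of the Jacobian at a prime with separably generated quotient
-/

set_option linter.style.haveILetI false

universe u

open IsLocalRing MvPowerSeries

namespace Groth.Agent.H4NagJac

theorem derivation_eq_zero {k P B L' L : Type u} [CommRing k] [CommRing P] [CommRing B] [IsDomain P] [Field L'] [Field L]
    [Algebra k P] [Algebra k B] [Algebra P B] [IsScalarTower k P B] [Algebra P L'] [IsFractionRing P L']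
    [Algebra B L] [FaithfulSMul B L] [Algebra k L] [IsScalarTower k B L] [Algebra P L] [IsScalarTower P B L]
    [Algebra L' L] [IsScalarTower P L' L] [Algebra.IsSeparable L' L] (D : Derivation k B L)
    (hD : ∀ f, D (algebraMap P B f) = 0) (b : B) : D b = 0 := by
  let β := algebraMap B L b
  let lin : B →ₗ[P] L :=
    { toFun := D
      map_add' := map_add D
      map_smul' := fun x y => by
        rw [RingHom.id_apply, Algebra.smul_def, Derivation.leibniz, hD, smul_zero, add_zero,
          algebraMap_smul] }
  let DP : Derivation P B L := Derivation.mk' lin (fun x y => D.leibniz x y)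
  have hDP : DP b = D b := rfl
  obtain ⟨d, hdM, hd⟩ := IsLocalization.integerNormalization_spec (nonZeroDivisors P) (minpoly L' β)
  set Q := IsLocalization.integerNormalization (nonZeroDivisors P) (minpoly L' β)
  have hd0 : algebraMap P L' d ≠ 0 := (map_ne_zero_iff _ (IsFractionRing.injective P L')).mpr
    (nonZeroDivisors.ne_zero hdM)
  rw [← algebraMap_smul L' d (minpoly L' β)] at hd
  have hev : ∀ R' : Polynomial P, algebraMap B L (Polynomial.aeval b R') =
      Polynomial.aeval β (R'.map (algebraMap P L')) := fun R' => by
    rw [Polynomial.aeval_map_algebraMap, Polynomial.aeval_algebraMap_apply]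
  have h0 : Polynomial.aeval b Q = 0 := FaithfulSMul.algebraMap_injective B L (by
    rw [hev, hd, map_zero, map_smul, minpoly.aeval, smul_zero])
  have h1 := DP.map_aeval Q b
  rw [h0, map_zero, hDP] at h1
  have h2 : algebraMap B L (Polynomial.aeval b (Polynomial.derivative Q)) ≠ 0 := by
    rw [hev, ← Polynomial.derivative_map, hd, Polynomial.derivative_smul, map_smul,
      Algebra.smul_def]
    refine mul_ne_zero ((map_ne_zero_iff _ (algebraMap L' L).injective).mpr hd0) ?_
    exact Polynomial.Separable.aeval_derivative_ne_zero (Algebra.IsSeparable.isSeparable L' β) (minpoly.aeval _ _)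
  rw [Algebra.smul_def, eq_comm, mul_eq_zero] at h1
  exact h1.resolve_left h2

section

variable {k : Type u} [Field k] {r s : ℕ} {B : Type u} [CommRing B] [Algebra k B]
  [Algebra (MvPowerSeries (Fin s) k) B] [IsScalarTower k (MvPowerSeries (Fin s) k) B]
  [Module.Finite (MvPowerSeries (Fin s) k) B]
  (π : MvPowerSeries (Fin r) k →ₐ[k] B) (hπ : Function.Surjective π)
  {L' L : Type u} [Field L'] [Field L] [Algebra (MvPowerSeries (Fin s) k) L']
  [IsFractionRing (MvPowerSeries (Fin s) k) L'] [Algebra B L] [FaithfulSMul B L] [Algebra L' L]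
  [Algebra (MvPowerSeries (Fin s) k) L] [IsScalarTower (MvPowerSeries (Fin s) k) B L]
  [IsScalarTower (MvPowerSeries (Fin s) k) L' L] [Algebra.IsSeparable L' L]

/-- The composite of the quotient map with the map to `L`. -/
noncomputable def phi : MvPowerSeries (Fin r) k →+* L := (algebraMap B L).comp π.toRingHom

theorem phi_apply (g : MvPowerSeries (Fin r) k) : phi (L := L) π g = algebraMap B L (π g) := rfl

local notation "φ" => phi (L := L) π

/-- The Jacobian row of a power series, read in `L`. -/
noncomputable def row (g : MvPowerSeries (Fin r) k) : Fin r → L := fun j => phi π (pderiv k j g)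

/-- The vectors orthogonal to all rows of elements of the kernel. -/
noncomputable def orth : Submodule L (Fin r → L) where
  carrier := {v | ∀ g, π g = 0 → ∑ j, row π g j * v j = 0}
  add_mem' := fun {a b} ha hb g hg => by
    simp only [Pi.add_apply, mul_add, Finset.sum_add_distrib]
    rw [ha g hg, hb g hg, add_zero]
  zero_mem' := fun g _ => by simp
  smul_mem' := fun c v hv g hg => by
    simp only [Pi.smul_apply, smul_eq_mul, mul_left_comm _ c, ← Finset.mul_sum]
    rw [hv g hg, mul_zero]

include hπ L' in
theorem finrank_orth_le : Module.finrank L (orth (L := L) π) ≤ s := by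
  classical
  choose y hy using fun i : Fin s => hπ (algebraMap (MvPowerSeries (Fin s) k) B (X i))
  let Φ : (orth (L := L) π) →ₗ[L] (Fin s → L) :=
    { toFun := fun v i => ∑ j, row π (y i) j * (v : Fin r → L) j
      map_add' := fun a b => by
        funext i
        simp only [Submodule.coe_add, Pi.add_apply, mul_add, Finset.sum_add_distrib]
      map_smul' := fun c a => by
        funext i
        simp only [Submodule.coe_smul, Pi.smul_apply, smul_eq_mul, RingHom.id_apply, mul_left_comm _ c,
          ← Finset.mul_sum] }
  suffices hinj : Function.Injective Φ by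
    simpa using LinearMap.finrank_le_finrank_of_injective hinj
  rw [injective_iff_map_eq_zero]
  intro v hv
  letI : Algebra k L := ((algebraMap B L).comp (algebraMap k B)).toAlgebra
  haveI : IsScalarTower k B L := IsScalarTower.of_algebraMap_eq fun _ => rfl
  let N : Submodule B L := Submodule.span B (Set.range (v : Fin r → L))
  haveI : Module.Finite B N := Module.Finite.span_of_finite B (Set.finite_range _)
  let E : MvPowerSeries (Fin r) k → L := fun g => ∑ j, row π g j * (v : Fin r → L) j
  have hEadd : ∀ a b, E (a + b) = E a + E b := fun a b => by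
    simp only [E, row, map_add, add_mul, Finset.sum_add_distrib]
  have hEmul : ∀ a b, E (a * b) = φ a * E b + φ b * E a := fun a b => by
    simp only [E, row, Derivation.leibniz, smul_eq_mul, map_add, map_mul, add_mul, Finset.sum_add_distrib,
      Finset.mul_sum, mul_assoc]
  have hEC : ∀ c : k, E (C c) = 0 := fun c => by
    simp only [E, row, pderiv_C, map_zero, zero_mul, Finset.sum_const_zero]
  have hEN : ∀ g, E g ∈ N := fun g => Submodule.sum_mem _ fun j _ => by
    show algebraMap B L (π (pderiv k j g)) * _ ∈ N
    rw [← Algebra.smul_def]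
    exact Submodule.smul_mem _ _ (Submodule.subset_span ⟨j, rfl⟩)
  have hwell : ∀ a b, π a = π b → E a = E b := fun a b hab => by
    have h := v.2 (a - b) (by rw [map_sub, hab, sub_self])
    change E (a - b) = 0 at h
    rw [← sub_eq_zero, ← h]
    simp only [E, row, map_sub, sub_mul, Finset.sum_sub_distrib]
  let sec := Function.surjInv hπ
  have hsec : ∀ b, π (sec b) = b := Function.surjInv_eq hπ
  let lin : B →ₗ[k] N :=
    { toFun := fun b => ⟨E (sec b), hEN _⟩
      map_add' := fun a b => Subtype.ext (by
        show E (sec (a + b)) = E (sec a) + E (sec b)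
        rw [← hEadd]
        exact hwell _ _ (by rw [map_add, hsec, hsec, hsec]))
      map_smul' := fun c b => Subtype.ext (by
        show E (sec (c • b)) = c • E (sec b)
        rw [hwell _ (c • sec b) (by rw [map_smul, hsec, hsec]), Algebra.smul_def, MvPowerSeries.algebraMap_apply,
          Algebra.algebraMap_self, RingHom.id_apply, hEmul, hEC, mul_zero, add_zero, Algebra.smul_def]
        congr 1
        show algebraMap B L (π (C c)) = algebraMap B L (algebraMap k B c)
        rw [← π.commutes, MvPowerSeries.algebraMap_apply, Algebra.algebraMap_self, RingHom.id_apply]) }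
  let D : Derivation k B N := Derivation.mk' lin fun a b => Subtype.ext (by
    show E (sec (a * b)) = a • E (sec b) + b • E (sec a)
    rw [hwell _ (sec a * sec b) (by rw [map_mul, hsec, hsec, hsec]), hEmul, Algebra.smul_def, Algebra.smul_def]
    congr 2 <;> exact congrArg (algebraMap B L) (hsec _))
  let DL : Derivation k B L := (N.subtype).compDer D
  have hDL : ∀ g, DL (π g) = E g := fun g => hwell _ _ (hsec _)
  have hX : ∀ i, D (algebraMap (MvPowerSeries (Fin s) k) B (X i)) = 0 := fun i => Subtype.ext (by
    show E (sec _) = 0
    rw [hwell _ (y i) (by rw [hsec, hy])]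
    exact congrFun hv i)
  have hP : ∀ f, DL (algebraMap (MvPowerSeries (Fin s) k) B f) = 0 := fun f => by
    show ((D (algebraMap (MvPowerSeries (Fin s) k) B f) : N) : L) = 0
    rw [CplKaehler4.derivation_algebraMap D f]
    simp [hX]
  ext j
  haveI : IsRegularLocalRing (MvPowerSeries (Fin s) k) := PSLib.isRegularLocalRing (K := k) (n := s)
  haveI : IsDomain (MvPowerSeries (Fin s) k) := RegLoc6.isDomain_of_isRegularLocalRing _
  have h := derivation_eq_zero (L' := L') DL hP (π (X j))
  rw [hDL] at h
  show (v : Fin r → L) j = 0
  rw [← h]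
  simp only [E, row]
  rw [Finset.sum_eq_single j (fun i _ hi => by rw [pderiv_X_of_ne (Ne.symm hi), map_zero, zero_mul])
    (fun hj => absurd (Finset.mem_univ j) hj), pderiv_X_self, map_one, one_mul]

include hπ L' L in
/-- Elements with independent classes at the kernel have a nonvanishing Jacobian minor there. -/
theorem exists_minor (p : Ideal (MvPowerSeries (Fin r) k)) [p.IsPrime] (hp : ∀ g, g ∈ p ↔ π g = 0)
    (hinjP : Function.Injective (algebraMap (MvPowerSeries (Fin s) k) B)) {m : ℕ}
    (f : Fin m → MvPowerSeries (Fin r) k) (hfp : ∀ i, f i ∈ p)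
    (hf : LinearIndependent (ResidueField (Localization.AtPrime p)) fun i =>
      (maximalIdeal (Localization.AtPrime p)).toCotangent
        ⟨algebraMap (MvPowerSeries (Fin r) k) (Localization.AtPrime p) (f i),
          (IsLocalization.AtPrime.to_map_mem_maximal_iff _ p _).mpr (hfp i)⟩) :
    ∃ σ : Fin m → Fin r, Matrix.det (Matrix.of fun i j => pderiv k (σ i) (f j)) ∉ p := by
  classical
  haveI : IsRegularRing (MvPowerSeries (Fin r) k) := Groth.Agent.S5784.result k r
  haveI : IsRegularLocalRing (Localization.AtPrime p) := isRegularRing_iff.mp inferInstance p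
  let mk' : p → maximalIdeal (Localization.AtPrime p) := fun g =>
    ⟨algebraMap (MvPowerSeries (Fin r) k) (Localization.AtPrime p) g, (IsLocalization.AtPrime.to_map_mem_maximal_iff _ p _).mpr g.2⟩
  let v : p → CotangentSpace (Localization.AtPrime p) := fun g => (maximalIdeal (Localization.AtPrime p)).toCotangent (mk' g)
  have hvspan : Submodule.span (ResidueField (Localization.AtPrime p)) (Set.range v) = ⊤ := by
    refine eq_top_iff.mpr fun x _ => ?_
    obtain ⟨⟨x, hx⟩, rfl⟩ := Ideal.toCotangent_surjective _ x
    obtain ⟨a, t, hat⟩ := IsLocalization.exists_mk'_eq p.primeCompl x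
    have ha : a ∈ p := by
      rw [← IsLocalization.AtPrime.to_map_mem_maximal_iff (Localization.AtPrime p) p, ← IsLocalization.mk'_spec (Localization.AtPrime p) a t, hat]
      exact Ideal.mul_mem_right _ _ hx
    have : (⟨x, hx⟩ : maximalIdeal (Localization.AtPrime p)) = IsLocalization.mk' (Localization.AtPrime p) 1 t • mk' ⟨a, ha⟩ := Subtype.ext (by
      show x = IsLocalization.mk' (Localization.AtPrime p) 1 t * algebraMap (MvPowerSeries (Fin r) k) (Localization.AtPrime p) a
      rw [← hat, mul_comm, IsLocalization.mul_mk'_eq_mk'_of_mul, mul_one])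
    rw [this, map_smul]
    exact Submodule.smul_mem _ (residue (Localization.AtPrime p) (IsLocalization.mk' (Localization.AtPrime p) 1 t)) (Submodule.subset_span (Set.mem_range_self (f := v) ⟨a, ha⟩))
  let w : Fin m → p := fun i => ⟨f i, hfp i⟩
  have hli : LinearIndepOn (ResidueField (Localization.AtPrime p)) id (Set.range (v ∘ w)) := hf.linearIndepOn_id
  have hst : Set.range (v ∘ w) ⊆ Set.range v := Set.range_comp_subset_range w v
  let b := hli.extend hst
  have hbli : LinearIndepOn (ResidueField (Localization.AtPrime p)) id b := hli.linearIndepOn_extend hst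
  have hbsub : b ⊆ Set.range v := hli.extend_subset hst
  have hfb : Set.range (v ∘ w) ⊆ b := hli.subset_extend hst
  have hbspan : Submodule.span (ResidueField (Localization.AtPrime p)) b = ⊤ := by
    rw [eq_top_iff, ← hvspan, Submodule.span_le]
    exact hli.subset_span_extend hst
  haveI : Fintype b := (LinearIndependent.setFinite hbli).fintype
  choose x0 hx0 using fun z : b => hbsub z.2
  -- the chosen elements, containing the given ones
  have hidx : ∀ i, (v ∘ w) i ∈ b := fun i => hfb ⟨i, rfl⟩
  let ι : Fin m → b := fun i => ⟨_, hidx i⟩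
  have hιinj : Function.Injective ι := fun i j h => hf.injective (congrArg Subtype.val h)
  let x : b → p := fun z => if h : ∃ i, ι i = z then w h.choose else x0 z
  have hx : ∀ z, v (x z) = z := by
    intro z
    by_cases h : ∃ i, ι i = z
    · simp only [x, dif_pos h]
      exact congrArg Subtype.val h.choose_spec
    · simp only [x, dif_neg h]
      exact hx0 z
  have hxι : ∀ i, x (ι i) = w i := fun i => by
    have h : ∃ j, ι j = ι i := ⟨i, rfl⟩
    simp only [x, dif_pos h]
    rw [hιinj h.choose_spec]
  -- all rows are combinations of the chosen ones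
  have hrow_mul : ∀ a g, π g = 0 → row (L := L) π (a * g) = φ a • row π g := fun a g hg => by
    funext j
    simp only [row, Derivation.leibniz, smul_eq_mul, map_add, map_mul, Pi.smul_apply]
    rw [phi_apply (g := g), hg, map_zero, zero_mul, add_zero]
  have hrow_sq : ∀ g ∈ p ^ 2, row (L := L) π g = 0 := fun g hg => by
    rw [pow_two] at hg
    refine Submodule.mul_induction_on hg (fun a ha c hc => ?_) fun a c ha hc => ?_
    · rw [hrow_mul a c ((hp c).mp hc), phi_apply, (hp a).mp ha, map_zero,
        zero_smul]
    · funext j
      have h1 := congrFun ha j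
      have h2 := congrFun hc j
      simp only [row, map_add, Pi.zero_apply] at h1 h2 ⊢
      rw [h1, h2, add_zero]
  have hrow_add : ∀ a c, row (L := L) π (a + c) = row π a + row π c := fun a c => by
    funext j; simp [row]
  let M : Matrix b (Fin r) L := Matrix.of fun z => row π (x z : (MvPowerSeries (Fin r) k))
  have hspanrows : ∀ g, π g = 0 → row (L := L) π g ∈ Submodule.span L (Set.range M.row) := by
    intro g hg
    obtain ⟨c, hc⟩ := (Submodule.mem_span_range_iff_exists_fun _).mp
      (show v ⟨g, (hp g).mpr hg⟩ ∈ Submodule.span (ResidueField (Localization.AtPrime p)) (Set.range fun z : b => (z : CotangentSpace (Localization.AtPrime p))) by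
        rw [Subtype.range_coe, hbspan]; trivial)
    choose γ hγ using fun z => residue_surjective (c z)
    have h1 : (maximalIdeal (Localization.AtPrime p)).toCotangent (mk' ⟨g, (hp g).mpr hg⟩ - ∑ z, γ z • mk' (x z)) = 0 := by
      rw [map_sub, map_sum, sub_eq_zero]
      refine hc.symm.trans (Finset.sum_congr rfl fun z _ => ?_)
      rw [map_smul, ← hγ z]
      exact congrArg (fun y => residue (Localization.AtPrime p) (γ z) • y) (hx z).symm
    rw [Ideal.toCotangent_eq_zero] at h1
    obtain ⟨t, ht⟩ := IsLocalization.exist_integer_multiples p.primeCompl Finset.univ γ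
    choose a ha using fun z => ht z (Finset.mem_univ z)
    have h2 : algebraMap (MvPowerSeries (Fin r) k) (Localization.AtPrime p) ((t : (MvPowerSeries (Fin r) k)) * g - ∑ z, a z * (x z : (MvPowerSeries (Fin r) k))) ∈ (p ^ 2).map (algebraMap (MvPowerSeries (Fin r) k) (Localization.AtPrime p)) := by
      rw [Ideal.map_pow, Localization.AtPrime.map_eq_maximalIdeal, map_sub, map_mul, map_sum]
      convert Ideal.mul_mem_left _ (algebraMap (MvPowerSeries (Fin r) k) (Localization.AtPrime p) t) h1 using 1
      simp only [AddSubgroupClass.coe_sub, Submodule.coe_sum, SetLike.val_smul, smul_eq_mul, mul_sub,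
        Finset.mul_sum, mk']
      congr 1
      refine Finset.sum_congr rfl fun z _ => ?_
      rw [map_mul, ha, Algebra.smul_def]
      ring
    rw [IsLocalization.algebraMap_mem_map_algebraMap_iff p.primeCompl] at h2
    obtain ⟨t', ht', hmem⟩ := h2
    have h3 : row (L := L) π (t' * (t : (MvPowerSeries (Fin r) k)) * g) = ∑ z, φ (t' * a z) • row π (x z : (MvPowerSeries (Fin r) k)) := by
      have : t' * (t : (MvPowerSeries (Fin r) k)) * g = (t' * ((t : (MvPowerSeries (Fin r) k)) * g - ∑ z, a z * (x z : (MvPowerSeries (Fin r) k)))) + ∑ z, t' * a z * (x z : (MvPowerSeries (Fin r) k)) := by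
        simp only [mul_sub, Finset.mul_sum, mul_assoc]
        ring
      rw [this, hrow_add, hrow_sq _ hmem, zero_add]
      refine (map_sum (AddMonoidHom.mk' (row (L := L) π) hrow_add) _ _).trans ?_
      exact Finset.sum_congr rfl fun z _ => hrow_mul _ _ ((hp _).mp (x z).2)
    rw [hrow_mul _ _ hg] at h3
    have hne : φ (t' * (t : (MvPowerSeries (Fin r) k))) ≠ 0 := by
      rw [phi_apply, map_ne_zero_iff _ (FaithfulSMul.algebraMap_injective B L),
        Ne, ← hp]
      exact fun h => (‹p.IsPrime›.mem_or_mem h).elim ht' t.2
    rw [← inv_smul_smul₀ hne (row (L := L) π g), h3]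
    exact Submodule.smul_mem _ _ (Submodule.sum_mem _ fun z _ =>
      Submodule.smul_mem _ _ (Submodule.subset_span ⟨z, rfl⟩))
  -- the dimensions
  have hker : LinearMap.ker M.mulVecLin ≤ orth (L := L) π := by
    intro u hu g hg
    obtain ⟨c, hc⟩ := (Submodule.mem_span_range_iff_exists_fun _).mp (hspanrows g hg)
    rw [← hc]
    simp only [Finset.sum_apply, Pi.smul_apply, smul_eq_mul, Finset.sum_mul, mul_assoc]
    rw [Finset.sum_comm]
    refine Finset.sum_eq_zero fun z _ => ?_
    rw [← Finset.mul_sum]
    have := congrFun (LinearMap.mem_ker.mp hu) z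
    rw [Matrix.mulVecLin_apply] at this
    exact mul_eq_zero_of_right _ this
  have hrk : r ≤ M.rank + s := by
    have h1 := LinearMap.finrank_range_add_finrank_ker M.mulVecLin
    rw [Module.finrank_fin_fun] at h1
    have h2 := (Submodule.finrank_mono hker).trans (finrank_orth_le (s := s) (L' := L') (L := L) π hπ)
    change M.rank + _ = r at h1
    omega
  have hcard : Fintype.card b + s ≤ r := by
    have h1 : Module.finrank (ResidueField (Localization.AtPrime p)) (CotangentSpace (Localization.AtPrime p)) = Fintype.card b := by
      rw [← finrank_top, ← hbspan, finrank_span_set_eq_card hbli, Set.toFinset_card]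
    have h2 := (IsRegularLocalRing.iff_finrank_cotangentSpace (Localization.AtPrime p)).mp inferInstance
    rw [h1, IsLocalization.AtPrime.ringKrullDim_eq_height p (Localization.AtPrime p)] at h2
    haveI : IsRegularLocalRing (MvPowerSeries (Fin r) k) := IsRegularLocalRing.of_isRegularRing_of_isLocalRing (MvPowerSeries (Fin r) k)
    haveI := LC.gorenstein_of_isRegularLocalRing (R := (MvPowerSeries (Fin r) k))
    haveI : LocCoh.IsCohenMacaulayLocalRing (MvPowerSeries (Fin r) k) := LC.isCohenMacaulayLocalRing_of_gorenstein
    have h3 := LC.height_add_ringKrullDim_quotient p (Ideal.IsPrime.ne_top inferInstance)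
    have hk : RingHom.ker π.toRingHom = p := by
      ext g; rw [RingHom.mem_ker, hp]; rfl
    have h4 : ringKrullDim ((MvPowerSeries (Fin r) k) ⧸ p) = s := by
      rw [← hk, ringKrullDim_eq_of_ringEquiv (RingHom.quotientKerEquivOfSurjective (f := π.toRingHom) hπ),
        EGA41Lib.ringKrullDim_eq_of_integral (A := MvPowerSeries (Fin s) k) hinjP, PSLib.ringKrullDim_eq]
    rw [h4, ← h2, PSLib.ringKrullDim_eq] at h3
    have : s + Fintype.card b = r := by exact_mod_cast h3
    omega
  have hrows : LinearIndependent L M.row := by
    rw [linearIndependent_iff_card_le_finrank_span, Set.finrank, ← Matrix.rank_eq_finrank_span_row]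
    omega
  -- the minor
  let N : Matrix (Fin m) (Fin r) L := Matrix.of fun i => row π (f i)
  have hN : LinearIndependent L N.row := by
    have h := hrows.comp ι hιinj
    convert h using 1
    funext i
    show row π (f i) = row π (x (ι i) : (MvPowerSeries (Fin r) k))
    rw [hxι]
  have hNrank : N.rank = m := by
    rw [Matrix.rank_eq_finrank_span_row, finrank_span_eq_card hN, Fintype.card_fin]
  obtain ⟨κ, a, hainj, haspan, hali⟩ := exists_linearIndependent' L N.col
  haveI : Fintype κ := Fintype.ofInjective a hainj
  have hκ : Fintype.card κ = m := by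
    rw [← finrank_span_eq_card hali, haspan, ← Matrix.rank_eq_finrank_span_cols, hNrank]
  let e : Fin m ≃ κ := (Fintype.equivFinOfCardEq hκ).symm
  refine ⟨a ∘ e, fun hdet => ?_⟩
  have hu : IsUnit (Matrix.of fun (i j : Fin m) => N i (a (e j))) := by
    rw [← Matrix.linearIndependent_cols_iff_isUnit]
    exact hali.comp e e.injective
  rw [Matrix.isUnit_iff_isUnit_det, isUnit_iff_ne_zero] at hu
  apply hu
  rw [← Matrix.det_transpose, show (Matrix.of fun (i j : Fin m) => N i (a (e j))).transpose =
    (phi (L := L) π).mapMatrix (Matrix.of fun i j => pderiv k ((a ∘ e) i) (f j)) from rfl, ← RingHom.map_det, phi_apply, (hp _).mp hdet, map_zero]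

end

end Groth.Agent.H4NagJac
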