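import Groth.Prelude.Def_CAlgX
import Groth.Agent.H4NagJac.Indep
import Mathlib

/-!
# The Jacobian criterion of formal smoothness at a prime of a quotient
-/

set_option linter.style.haveILetI false

universe u

open IsLocalRing TensorProduct

namespace Groth.Agent.H4NagJac

variable {k A : Type u} [CommRing k] [CommRing A] [Algebra k A]

/-- The localization of a quotient as a quotient of the localization, over the base. -/
theorem exists_localAlgHom (q p : Ideal A) [p.IsPrime] (p' : Ideal (A ⧸ q)) [p'.IsPrime]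
    (h : p'.comap (Ideal.Quotient.mk q) = p) :
    ∃ π : Localization.AtPrime p →ₐ[k] Localization.AtPrime p', Function.Surjective π ∧
      RingHom.ker π.toRingHom = q.map (algebraMap A (Localization.AtPrime p)) := by
  let φ := Localization.localRingHom p p' (Ideal.Quotient.mk q) h.symm
  let π : Localization.AtPrime p →ₐ[k] Localization.AtPrime p' :=
    { φ with
      commutes' := fun c => by
        show φ (algebraMap k _ c) = _
        rw [IsScalarTower.algebraMap_apply k A (Localization.AtPrime p), Localization.localRingHom_to_map,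
          IsScalarTower.algebraMap_apply k (A ⧸ q) (Localization.AtPrime p')]
        rfl }
  refine ⟨π, ?_, le_antisymm (fun z hz => ?_) ?_⟩
  · intro z
    obtain ⟨a, s, rfl⟩ := IsLocalization.exists_mk'_eq p'.primeCompl z
    obtain ⟨a, rfl⟩ := Ideal.Quotient.mk_surjective a
    obtain ⟨s', hs'⟩ := s
    obtain ⟨s, rfl⟩ := Ideal.Quotient.mk_surjective s'
    exact ⟨IsLocalization.mk' _ a (⟨s, fun hs => hs' (by subst h; exact hs)⟩ : p.primeCompl),
      Localization.localRingHom_mk' p p' _ h.symm _ _⟩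
  · obtain ⟨a, s, rfl⟩ := IsLocalization.exists_mk'_eq p.primeCompl z
    change φ _ = 0 at hz
    rw [Localization.localRingHom_mk', IsLocalization.mk'_eq_zero_iff] at hz
    obtain ⟨⟨t', ht'⟩, ht⟩ := hz
    obtain ⟨t, rfl⟩ := Ideal.Quotient.mk_surjective t'
    rw [← map_mul, Ideal.Quotient.eq_zero_iff_mem] at ht
    have hu : IsUnit (algebraMap A (Localization.AtPrime p) t) :=
      IsLocalization.map_units _ (⟨t, fun hh => ht' (by subst h; exact hh)⟩ : p.primeCompl)
    have ha := Ideal.mem_map_of_mem (algebraMap A (Localization.AtPrime p)) ht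
    rw [map_mul, Ideal.unit_mul_mem_iff_mem _ hu] at ha
    rw [IsLocalization.mk'_eq_mul_mk'_one]
    exact Ideal.mul_mem_right _ _ ha
  · rw [Ideal.map_le_iff_le_comap]
    intro a ha
    show φ (algebraMap A _ a) = 0
    rw [Localization.localRingHom_to_map, Ideal.Quotient.eq_zero_iff_mem.mpr ha, map_zero]

theorem isUnit_of_quotient {E : Type*} [CommRing E] {J : Ideal E} (hJ : J ^ 2 = ⊥) {x : E}
    (h : IsUnit (Ideal.Quotient.mk J x)) : IsUnit x := by
  obtain ⟨y, hy⟩ := h.exists_right_inv
  obtain ⟨y, rfl⟩ := Ideal.Quotient.mk_surjective y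
  rw [← map_mul, ← map_one (Ideal.Quotient.mk J), Ideal.Quotient.eq] at hy
  have h2 : (x * y - 1) ^ 2 = 0 := by
    have := Ideal.pow_mem_pow hy 2
    rwa [hJ, Ideal.mem_bot] at this
  exact IsUnit.of_mul_eq_one (y * (2 - x * y)) (by linear_combination -h2)

/-- Jacobian criterion: sufficiency. -/
theorem fs_of_det (p : Ideal A) [p.IsPrime] {S : Type u} [CommRing S] [IsLocalRing S] [Algebra k S]
    (π : Localization.AtPrime p →ₐ[k] S) (hπ : Function.Surjective π)
    (hfs : CAlgX.IsAdicFormallySmooth k (Localization.AtPrime p) (maximalIdeal (Localization.AtPrime p)))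
    {m : ℕ} (D : Fin m → Derivation k A A) (f : Fin m → A)
    (hker : RingHom.ker π.toRingHom = Ideal.span (Set.range fun i => algebraMap A (Localization.AtPrime p) (f i)))
    (hdet : Matrix.det (Matrix.of fun i j => D i (f j)) ∉ p) :
    CAlgX.IsAdicFormallySmooth k S (maximalIdeal S) := by
  classical
  intro E _ _ J hJ ψ hψ
  obtain ⟨N, hN⟩ := hψ
  haveI : IsLocalHom π.toRingHom := IsLocalHom.of_surjective _ hπ
  obtain ⟨χ, hχ⟩ := hfs E J hJ (ψ.comp π) ⟨N, fun x hx => hN _ (by
    have h1 := Ideal.mem_map_of_mem π.toRingHom hx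
    rw [Ideal.map_pow, IsLocalRing.map_maximalIdeal_of_surjective π.toRingHom hπ] at h1
    exact h1)⟩
  have hχ' : ∀ x, Ideal.Quotient.mk J (χ x) = ψ (π x) := fun x => AlgHom.congr_fun hχ x
  let g : A →ₐ[k] E := χ.comp (IsScalarTower.toAlgHom k A (Localization.AtPrime p))
  have hgJ : ∀ j, g (f j) ∈ J := fun j => by
    rw [← Ideal.Quotient.eq_zero_iff_mem]
    show Ideal.Quotient.mk J (χ (algebraMap A _ (f j))) = 0
    rw [hχ', show π (algebraMap A _ (f j)) = 0 from hker.ge (Ideal.subset_span ⟨j, rfl⟩), map_zero]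
  let M : Matrix (Fin m) (Fin m) E := g.toRingHom.mapMatrix (Matrix.of fun i j => D i (f j))
  have hM : IsUnit M.det := by
    rw [← RingHom.map_det]
    exact (IsLocalization.map_units (Localization.AtPrime p) (⟨_, hdet⟩ : p.primeCompl)).map χ
  let c : Fin m → E := Matrix.vecMul (fun j => g (f j)) M⁻¹
  have hc : ∀ i, c i ∈ J := fun i => by
    show ∑ j, g (f j) * M⁻¹ j i ∈ J
    exact Ideal.sum_mem J fun j _ => Ideal.mul_mem_right _ _ (hgJ j)
  have hcM : ∀ j, ∑ i, c i * g (D i (f j)) = g (f j) := fun j => by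
    have h1 : Matrix.vecMul c M = fun j => g (f j) := by
      rw [Matrix.vecMul_vecMul, Matrix.nonsing_inv_mul M hM, Matrix.vecMul_one]
    exact congrFun h1 j
  have hJ2 : ∀ x ∈ J, ∀ y ∈ J, x * y = 0 := fun x hx y hy => by
    have := Ideal.mul_mem_mul hx hy
    rwa [← pow_two, hJ, Ideal.mem_bot] at this
  let g' : A →ₐ[k] E :=
    { toFun := fun a => g a - ∑ i, c i * g (D i a)
      map_one' := by simp
      map_mul' := fun a b => by
        have h2 : (∑ i, c i * g (D i a)) * ∑ i, c i * g (D i b) = 0 :=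
          hJ2 _ (Ideal.sum_mem _ fun i _ => Ideal.mul_mem_right _ _ (hc i)) _
            (Ideal.sum_mem _ fun i _ => Ideal.mul_mem_right _ _ (hc i))
        have h3 : ∑ i, c i * g (D i (a * b)) = g a * ∑ i, c i * g (D i b) + g b * ∑ i, c i * g (D i a) := by
          rw [Finset.mul_sum, Finset.mul_sum, ← Finset.sum_add_distrib]
          refine Finset.sum_congr rfl fun i _ => ?_
          rw [Derivation.leibniz, smul_eq_mul, smul_eq_mul, map_add, map_mul, map_mul]
          ring
        rw [h3, map_mul]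
        linear_combination -h2
      map_zero' := by simp
      map_add' := fun a b => by
        simp only [map_add, mul_add, Finset.sum_add_distrib]
        ring
      commutes' := fun r => by
        show g (algebraMap k A r) - ∑ i, c i * g (D i (algebraMap k A r)) = _
        simp }
  have hg' : ∀ a, Ideal.Quotient.mk J (g' a) = ψ (π (algebraMap A (Localization.AtPrime p) a)) := fun a => by
    show Ideal.Quotient.mk J (g a - ∑ i, c i * g (D i a)) = _
    rw [map_sub, Ideal.Quotient.eq_zero_iff_mem.mpr (Ideal.sum_mem _ fun i _ => Ideal.mul_mem_right _ _ (hc i)),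
      sub_zero]
    exact hχ' _
  have hunit : ∀ s : p.primeCompl, IsUnit (g' s) := fun s => isUnit_of_quotient hJ (by
    rw [hg']
    exact ((IsLocalization.map_units (Localization.AtPrime p) s).map π).map ψ)
  let χ' : Localization.AtPrime p →ₐ[k] E := IsLocalization.liftAlgHom (M := p.primeCompl) (f := g') hunit
  have hχA : ∀ a, χ' (algebraMap A (Localization.AtPrime p) a) = g' a := fun a => IsLocalization.lift_eq _ _
  have hkill : ∀ x, π x = 0 → χ' x = 0 := fun x hx => by
    have hx' : x ∈ Ideal.span (Set.range fun i => algebraMap A (Localization.AtPrime p) (f i)) := hker.le hx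
    have hle : Ideal.span (Set.range fun i => algebraMap A (Localization.AtPrime p) (f i)) ≤
        RingHom.ker χ'.toRingHom := by
      rw [Ideal.span_le]
      rintro _ ⟨j, rfl⟩
      show χ' _ = 0
      rw [hχA]
      show g (f j) - ∑ i, c i * g (D i (f j)) = 0
      rw [hcM, sub_self]
    exact hle hx'
  refine ⟨AlgHom.liftOfSurjective π hπ χ' (fun x hx => hkill x hx), AlgHom.ext fun y => ?_⟩
  obtain ⟨x, rfl⟩ := hπ y
  rw [AlgHom.comp_apply, AlgHom.liftOfSurjective_apply]
  have hcomp : (Ideal.Quotient.mkₐ k J).comp χ' = ψ.comp π :=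
    IsLocalization.algHom_ext p.primeCompl (AlgHom.ext fun a => by
      show Ideal.Quotient.mk J (χ' (algebraMap A _ a)) = _
      rw [hχA]
      exact hg' a)
  exact AlgHom.congr_fun hcomp x

theorem exists_lift_mod {R S E : Type u} [CommRing R] [IsLocalRing R] [Algebra k R] [CommRing S] [IsLocalRing S]
    [Algebra k S] [CommRing E] [Algebra k E] (π : R →ₐ[k] S) (hπ : Function.Surjective π)
    (hfs : CAlgX.IsAdicFormallySmooth k S (maximalIdeal S)) (ρ : R →ₐ[k] E)
    (hρ : ∀ x ∈ maximalIdeal R ^ 2, ρ x = 0) (J : Ideal E) (hJ : J ^ 2 = ⊥)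
    (hker : ∀ x, π x = 0 → ρ x ∈ J) :
    ∃ χ : S →ₐ[k] E, ∀ x, χ (π x) - ρ x ∈ J := by
  let ψ₀ : R →ₐ[k] E ⧸ J := (Ideal.Quotient.mkₐ k J).comp ρ
  have hψ₀ : RingHom.ker π.toRingHom ≤ RingHom.ker ψ₀.toRingHom := fun x hx =>
    Ideal.Quotient.eq_zero_iff_mem.mpr (hker x hx)
  let ψ : S →ₐ[k] E ⧸ J := AlgHom.liftOfSurjective π hπ ψ₀ hψ₀
  have hψ : ∀ x, ψ (π x) = Ideal.Quotient.mk J (ρ x) := fun x => AlgHom.liftOfSurjective_apply π hπ ψ₀ hψ₀ x
  haveI : IsLocalHom π.toRingHom := IsLocalHom.of_surjective _ hπ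
  obtain ⟨χ, hχ⟩ := hfs E J hJ ψ ⟨2, fun y hy => by
    rw [← IsLocalRing.map_maximalIdeal_of_surjective π.toRingHom hπ, ← Ideal.map_pow,
      Ideal.mem_map_iff_of_surjective π.toRingHom hπ] at hy
    obtain ⟨x, hx, rfl⟩ := hy
    show ψ (π x) = 0
    rw [hψ, hρ x hx, map_zero]⟩
  exact ⟨χ, fun x => Ideal.Quotient.eq.mp ((AlgHom.congr_fun hχ (π x)).trans (hψ x))⟩

theorem exists_derivation_cot {R : Type u} [CommRing R] [IsLocalRing R] [Algebra k R] [Algebra A R]
    [IsScalarTower k A R] (I : Ideal (R ⧸ maximalIdeal R ^ 2)) (hI : I ^ 2 = ⊥)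
    (F : A →ₐ[k] R ⧸ maximalIdeal R ^ 2)
    (hF : ∀ a, F a - algebraMap A (R ⧸ maximalIdeal R ^ 2) a ∈ I) :
    ∃ d : Derivation k A I, ∀ a, (d a : R ⧸ maximalIdeal R ^ 2) = F a - algebraMap A (R ⧸ maximalIdeal R ^ 2) a :=
  ⟨derivationToSquareZeroOfLift I hI F (AlgHom.ext fun a => Ideal.Quotient.eq.mpr (hF a)), fun _ => rfl⟩

/-- Jacobian criterion: the differentials of independent equations of a formally smooth quotient stay
independent. -/
theorem tmul_D_independent (p : Ideal A) [p.IsPrime] {S : Type u} [CommRing S] [IsLocalRing S] [Algebra k S]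
    (π : Localization.AtPrime p →ₐ[k] S) (hπ : Function.Surjective π)
    (hfs : CAlgX.IsAdicFormallySmooth k S (maximalIdeal S))
    {m : ℕ} (f : Fin m → A) (hfp : ∀ i, f i ∈ p) (hfπ : ∀ i, π (algebraMap A (Localization.AtPrime p) (f i)) = 0)
    (hli : LinearIndependent (ResidueField (Localization.AtPrime p)) fun i =>
      (maximalIdeal (Localization.AtPrime p)).toCotangent
        ⟨algebraMap A (Localization.AtPrime p) (f i),
          (IsLocalization.AtPrime.to_map_mem_maximal_iff _ p _).mpr (hfp i)⟩) :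
    LinearIndependent (ResidueField (Localization.AtPrime p))
      (fun i => (1 : ResidueField (Localization.AtPrime p)) ⊗ₜ[A] KaehlerDifferential.D k A (f i)) := by
  classical
  set R := Localization.AtPrime p with hR
  let E := R ⧸ maximalIdeal R ^ 2
  let ρ : R →ₐ[k] E := Ideal.Quotient.mkₐ k (maximalIdeal R ^ 2)
  let J : Ideal E := (RingHom.ker π.toRingHom ⊔ maximalIdeal R ^ 2).map (Ideal.Quotient.mk (maximalIdeal R ^ 2))
  have hJI : J ≤ (maximalIdeal R).cotangentIdeal := by
    refine Ideal.map_le_iff_le_comap.mpr (sup_le (fun x hx => ?_) (fun x hx => ?_))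
    · exact Submodule.mem_map_of_mem (le_maximalIdeal (RingHom.ker_ne_top π.toRingHom) hx)
    · exact Submodule.mem_map_of_mem (Ideal.pow_le_self two_ne_zero hx)
  have hI2 : (maximalIdeal R).cotangentIdeal ^ 2 = ⊥ := (maximalIdeal R).cotangentIdeal_square
  obtain ⟨χ, hχ⟩ := exists_lift_mod π hπ hfs ρ (fun x hx => Ideal.Quotient.eq_zero_iff_mem.mpr hx) J
    (le_bot_iff.mp (hI2 ▸ Ideal.pow_right_mono hJI 2))
    (fun x hx => Ideal.mem_map_of_mem _ (Submodule.mem_sup_left (show x ∈ RingHom.ker π.toRingHom from hx)))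
  let F : A →ₐ[k] E := (χ.comp π).comp (IsScalarTower.toAlgHom k A R)
  obtain ⟨d, hd⟩ := exists_derivation_cot (k := k) (maximalIdeal R).cotangentIdeal hI2 F
    (fun a => hJI (hχ (algebraMap A R a)))
  let c : Derivation k A (maximalIdeal R).Cotangent :=
    ((maximalIdeal R).cotangentEquivIdeal.symm.toLinearMap.restrictScalars A).compDer d
  have hcf : ∀ i, c (f i) = -(maximalIdeal R).toCotangent ⟨algebraMap A R (f i),
      (IsLocalization.AtPrime.to_map_mem_maximal_iff _ p _).mpr (hfp i)⟩ := fun i => by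
    show (maximalIdeal R).cotangentEquivIdeal.symm (d (f i)) = _
    rw [LinearEquiv.symm_apply_eq, map_neg]
    refine Subtype.ext ?_
    rw [hd, show F (f i) = χ (π (algebraMap A R (f i))) from rfl, hfπ, map_zero, zero_sub]
    rfl
  haveI : IsScalarTower A (ResidueField R) (CotangentSpace R) := IsScalarTower.of_algebraMap_smul fun a x => by
    rw [IsScalarTower.algebraMap_apply A R (ResidueField R), algebraMap_smul, algebraMap_smul]
  let Λ : ResidueField R ⊗[A] Ω[A⁄k] →ₗ[ResidueField R] CotangentSpace R :=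
    LinearMap.liftBaseChange _ c.liftKaehlerDifferential
  refine LinearIndependent.of_comp Λ ?_
  have : (fun i => Λ ((1 : ResidueField R) ⊗ₜ[A] KaehlerDifferential.D k A (f i))) =
      fun i => -((maximalIdeal R).toCotangent ⟨algebraMap A R (f i),
        (IsLocalization.AtPrime.to_map_mem_maximal_iff _ p _).mpr (hfp i)⟩) := funext fun i => by
    rw [LinearMap.liftBaseChange_tmul, one_smul, Derivation.liftKaehlerDifferential_comp_D, hcf]
  show LinearIndependent _ (fun i => Λ _)
  rw [this]
  exact hli.neg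

end Groth.Agent.H4NagJac
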