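import Groth.Agent.H4NagJac.PMain
import Groth.Agent.H4NagJac.ImageRank
import Groth.Agent.H4NagJac.Indep
import Groth.Agent.H4NagJac.SmoothCrit
import Groth.Agent.S4574
import Groth.Agent.CplKaehler4.Finite
import Groth.Agent.CplKaehler4.Domain
import Groth.Agent.CplKaehler4.Rank
import Groth.Agent.LC.GorLoc
import Groth.Agent.LC.GorRows
import Groth.Agent.EGA41Lib.IntDim
import Groth.Agent.EGA41Lib.FieldFS
import Groth.Agent.RegFS6.Field
import Groth.Prelude.Def_Exal2
import Mathlib

/-!
# Nagata's Jacobian criterion for formally smooth complete algebras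
-/

set_option linter.style.haveILetI false

universe u

open IsLocalRing TensorProduct

namespace Groth.Agent.H4NagJac

theorem isRegularLocalRing_of_fs {k S : Type u} [Field k] [CommRing S] [IsLocalRing S] [IsNoetherianRing S]
    [Algebra k S] (h : CAlgX.IsAdicFormallySmooth k S (maximalIdeal S)) : IsRegularLocalRing S := by
  haveI := FlatLoc6.isRegularRing_of_geometricallyRegular (RegFS6.geometricallyRegular_of_fs h)
  exact IsRegularLocalRing.of_isRegularRing_of_isLocalRing S

theorem finite_residueField_quotient {K₀ A : Type u} [Field K₀] [CommRing A] [IsLocalRing A] [Algebra K₀ A]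
    [Module.Finite K₀ (ResidueField A)] (I : Ideal A) [IsLocalRing (A ⧸ I)] :
    Module.Finite K₀ (ResidueField (A ⧸ I)) := by
  haveI : IsLocalHom (Ideal.Quotient.mk I) := IsLocalHom.of_surjective _ Ideal.Quotient.mk_surjective
  let f : ResidueField A →ₐ[K₀] ResidueField (A ⧸ I) :=
    { ResidueField.map (Ideal.Quotient.mk I) with
      commutes' := fun c => rfl }
  refine Module.Finite.of_surjective f.toLinearMap fun z => ?_
  obtain ⟨y, rfl⟩ := residue_surjective z
  obtain ⟨a, rfl⟩ := Ideal.Quotient.mk_surjective y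
  exact ⟨residue A a, rfl⟩

set_option synthInstance.maxHeartbeats 200000 in
attribute [local instance] Exal.opModule Exal.isCentralScalar_opModule in
/-- An absolute derivation of the base extends to a formally smooth algebra. -/
theorem exists_derivation_extend_int {A B : Type u} [CommRing A] [CommRing B] [Algebra A B] {J : Ideal B} (h : CAlgX.IsAdicFormallySmooth A B J)
    (P : Type u) [AddCommGroup P] [Module (B ⧸ J) P] [Module B P] [IsScalarTower B (B ⧸ J) P]
    [Module A P] [IsScalarTower A B P] [IsScalarTower A (B ⧸ J) P] (δ : Derivation ℤ A P) :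
    ∃ D : B →+ P, (∀ x y, D (x * y) = x • D y + y • D x) ∧ ∀ a, D (algebraMap A B a) = δ a := by
  let T := TrivSqZeroExt (B ⧸ J) P
  letI : Algebra A T := (Exal.Ext.derivationHom (C := B ⧸ J) δ : A →+* T).toAlgebra
  have hAT : ∀ a, algebraMap A T a = TrivSqZeroExt.inl (algebraMap A (B ⧸ J) a) + TrivSqZeroExt.inr (δ a) :=
    fun a => rfl
  let π : T →ₐ[A] B ⧸ J :=
    { (TrivSqZeroExt.fstHom ℤ (B ⧸ J) P).toRingHom with
      commutes' := fun a => by
        show TrivSqZeroExt.fst (algebraMap A T a) = _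
        rw [hAT, TrivSqZeroExt.fst_add, TrivSqZeroExt.fst_inl, TrivSqZeroExt.fst_inr, add_zero] }
  have hπ : Function.Surjective π := fun c => ⟨TrivSqZeroExt.inl c, rfl⟩
  let e := Ideal.quotientKerAlgEquivOfSurjective hπ
  have hM : RingHom.ker π.toRingHom ^ 2 = ⊥ := by
    rw [eq_bot_iff, pow_two, Ideal.mul_le]
    intro x hx y hy
    rw [Ideal.mem_bot]
    have hx' : TrivSqZeroExt.fst x = 0 := hx
    have hy' : TrivSqZeroExt.fst y = 0 := hy
    refine TrivSqZeroExt.ext (by rw [TrivSqZeroExt.fst_mul, hx', zero_mul, TrivSqZeroExt.fst_zero]) ?_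
    rw [TrivSqZeroExt.snd_mul, hx', hy', op_smul_eq_smul, zero_smul, zero_smul, add_zero, TrivSqZeroExt.snd_zero]
  obtain ⟨χ, hχ⟩ := h T _ hM (e.symm.toAlgHom.comp (Ideal.Quotient.mkₐ A J)) ⟨1, fun x hx => by
    show e.symm (Ideal.Quotient.mk J x) = 0
    rw [Ideal.Quotient.eq_zero_iff_mem.2 (by simpa using hx), map_zero]⟩
  have hfst : ∀ b, TrivSqZeroExt.fst (χ b) = Ideal.Quotient.mk J b := fun b =>
    (congrArg e (AlgHom.congr_fun hχ b)).trans (e.apply_symm_apply _)
  refine ⟨{ toFun := fun b => TrivSqZeroExt.snd (χ b)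
            map_zero' := by rw [map_zero, TrivSqZeroExt.snd_zero]
            map_add' := fun x y => by rw [map_add, TrivSqZeroExt.snd_add] },
    fun x y => ?_, fun a => ?_⟩
  · show TrivSqZeroExt.snd (χ (x * y)) = x • TrivSqZeroExt.snd (χ y) + y • TrivSqZeroExt.snd (χ x)
    rw [map_mul, TrivSqZeroExt.snd_mul, hfst, hfst, op_smul_eq_smul]
    exact congrArg₂ (· + ·) (algebraMap_smul (B ⧸ J) x _) (algebraMap_smul (B ⧸ J) y _)
  · show TrivSqZeroExt.snd (χ (algebraMap A B a)) = δ a
    rw [AlgHom.commutes, hAT, TrivSqZeroExt.snd_add, TrivSqZeroExt.snd_inl, TrivSqZeroExt.snd_inr, zero_add]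

theorem exists_minor_aux (p : ℕ) {k K₀ A : Type u} [Field k] [ExpChar k p]
    (hk : p = 1 ∨ Module.Finite (frobenius k p).fieldRange k)
    [Field K₀] [Algebra k K₀] [Algebra.IsGeometricallyReduced k K₀]
    [CommRing A] [IsLocalRing A] [IsNoetherianRing A] [IsAdicComplete (maximalIdeal A) A]
    [Algebra k A] [Algebra K₀ A] [IsScalarTower k K₀ A] [Module.Finite K₀ (ResidueField A)]
    (hA : CAlgX.IsAdicFormallySmooth K₀ A (maximalIdeal A))
    (𝔭 : Ideal A) [𝔭.IsPrime] {m : ℕ} (f : Fin m → A) (hfp : ∀ i, f i ∈ 𝔭)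
    (L : Type u) [Field L] [Algebra A L] [Algebra (A ⧸ 𝔭) L] [IsScalarTower A (A ⧸ 𝔭) L] [IsFractionRing (A ⧸ 𝔭) L]
    [Algebra k L] [IsScalarTower k A L] [Algebra K₀ L] [IsScalarTower K₀ A L]
    (hext : ∀ δ : Derivation ℤ k L, ∃ E : Derivation ℤ A L, ∀ c, E (algebraMap k A c) = δ c)
    (hli : LinearIndependent L fun i => (1 : L) ⊗ₜ[A] KaehlerDifferential.D k A (f i)) :
    ∃ D : Fin m → Derivation k A A, Matrix.det (Matrix.of fun i j => D i (f j)) ∉ 𝔭 := by
  classical
  haveI := EGA41Lib.FieldFS.formallySmooth_of_isGeometricallyReduced k K₀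
  have hAk : CAlgX.IsAdicFormallySmooth k A (maximalIdeal A) := AdicFS4.isAdicFormallySmooth_comp (Λ := k) hA
  have hloc := Groth.Agent.S4574.result hAk 𝔭
  haveI hAreg : IsRegularLocalRing A := isRegularLocalRing_of_fs hA
  haveI : IsNoetherianRing (Localization.AtPrime 𝔭) := IsLocalization.isNoetherianRing 𝔭.primeCompl _ inferInstance
  haveI : IsRegularLocalRing (Localization.AtPrime 𝔭) := isRegularLocalRing_of_fs hloc
  obtain ⟨n, D₀, hn, hind₀⟩ := exists_derivation_family hA
  -- the normalization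
  haveI : IsLocalRing (A ⧸ 𝔭) := IsLocalRing.of_surjective' (Ideal.Quotient.mk 𝔭) Ideal.Quotient.mk_surjective
  haveI : IsDomain (A ⧸ 𝔭) := Ideal.Quotient.isDomain 𝔭
  haveI := CplKaehler4.isAdicComplete_quot 𝔭
  haveI := finite_residueField_quotient (K₀ := K₀) 𝔭
  obtain ⟨s, t, ht, hdim, hrad⟩ := CohenLib.exists_fin_sop (A ⧸ 𝔭)
  obtain ⟨ψ, -, hψfin, -⟩ := CplKaehler4.exists_algHom_finite K₀ t ht hrad
  haveI : IsRegularLocalRing (MvPowerSeries (Fin s) K₀) := PSLib.isRegularLocalRing (K := K₀) (n := s)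
  haveI : IsDomain (MvPowerSeries (Fin s) K₀) := RegLoc6.isDomain_of_isRegularLocalRing _
  have hψinj : Function.Injective ψ :=
    CohenLib.injective_of_finite ψ.toRingHom hψfin hdim (PSLib.ringKrullDim_eq (K := K₀) (n := s)).le
  letI : Algebra (MvPowerSeries (Fin s) K₀) (A ⧸ 𝔭) := ψ.toRingHom.toAlgebra
  haveI : IsScalarTower K₀ (MvPowerSeries (Fin s) K₀) (A ⧸ 𝔭) :=
    IsScalarTower.of_algebraMap_eq fun c => (ψ.commutes c).symm
  haveI : Module.Finite (MvPowerSeries (Fin s) K₀) (A ⧸ 𝔭) := hψfin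
  letI : Algebra (MvPowerSeries (Fin s) K₀) L := ((algebraMap (A ⧸ 𝔭) L).comp ψ.toRingHom).toAlgebra
  haveI : IsScalarTower (MvPowerSeries (Fin s) K₀) (A ⧸ 𝔭) L := IsScalarTower.of_algebraMap_eq fun _ => rfl
  haveI : FaithfulSMul (MvPowerSeries (Fin s) K₀) L := (faithfulSMul_iff_algebraMap_injective _ _).mpr
    ((IsFractionRing.injective (A ⧸ 𝔭) L).comp hψinj)
  haveI : IsScalarTower K₀ (A ⧸ 𝔭) L := IsScalarTower.of_algebraMap_eq fun c => by
    rw [IsScalarTower.algebraMap_apply K₀ A (A ⧸ 𝔭), ← IsScalarTower.algebraMap_apply A (A ⧸ 𝔭) L,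
      ← IsScalarTower.algebraMap_apply]
  haveI : IsScalarTower K₀ (MvPowerSeries (Fin s) K₀) L := IsScalarTower.of_algebraMap_eq fun c => by
    rw [IsScalarTower.algebraMap_apply (MvPowerSeries (Fin s) K₀) (A ⧸ 𝔭) L, ← IsScalarTower.algebraMap_apply K₀,
      ← IsScalarTower.algebraMap_apply]
  haveI : IsScalarTower k K₀ L := IsScalarTower.of_algebraMap_eq fun c => by
    rw [IsScalarTower.algebraMap_apply K₀ A L, ← IsScalarTower.algebraMap_apply k K₀ A, ← IsScalarTower.algebraMap_apply]
  let M := FractionRing (MvPowerSeries (Fin s) K₀)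
  letI : Algebra M L := FractionRing.liftAlgebra (MvPowerSeries (Fin s) K₀) L
  haveI : IsScalarTower k M L := IsScalarTower.of_algebraMap_eq fun c => by
    rw [IsScalarTower.algebraMap_apply k (MvPowerSeries (Fin s) K₀) M,
      ← IsScalarTower.algebraMap_apply (MvPowerSeries (Fin s) K₀) M L,
      IsScalarTower.algebraMap_apply k K₀ (MvPowerSeries (Fin s) K₀), ← IsScalarTower.algebraMap_apply K₀,
      ← IsScalarTower.algebraMap_apply]
  haveI : Module.Finite M L := CplKaehler4.finite_fractionField (MvPowerSeries (Fin s) K₀) (A ⧸ 𝔭) M L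
  -- the dimensions
  have hp0 : ∀ a, algebraMap A L a = 0 ↔ a ∈ 𝔭 := fun a => by
    rw [IsScalarTower.algebraMap_apply A (A ⧸ 𝔭) L, map_eq_zero_iff _ (IsFractionRing.injective _ _),
      Ideal.Quotient.algebraMap_eq, Ideal.Quotient.eq_zero_iff_mem]
  obtain ⟨hfinD, hfinU, hrank⟩ := finrank_imD_add_imperfection (k := k) L 𝔭 hp0 hext
  have hheight : s + Module.finrank (ResidueField (Localization.AtPrime 𝔭))
      (CotangentSpace (Localization.AtPrime 𝔭)) = n := by
    have h2 := (IsRegularLocalRing.iff_finrank_cotangentSpace (Localization.AtPrime 𝔭)).mp inferInstance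
    rw [IsLocalization.AtPrime.ringKrullDim_eq_height 𝔭 (Localization.AtPrime 𝔭)] at h2
    haveI := LC.gorenstein_of_isRegularLocalRing (R := A)
    haveI : LocCoh.IsCohenMacaulayLocalRing A := LC.isCohenMacaulayLocalRing_of_gorenstein
    have h3 := LC.height_add_ringKrullDim_quotient 𝔭 (Ideal.IsPrime.ne_top inferInstance)
    rw [hdim, ← h2, hn] at h3
    exact_mod_cast h3
  have key : ∃ (ι : Type u) (_ : Fintype ι) (D : ι → Derivation k A A),
      Module.finrank L (orthD L 𝔭 D) + n ≤ Fintype.card ι + s + Module.finrank L (EGA41.imperfection ℤ k L) := by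
    rcases ‹ExpChar k p› with _ | ⟨hprime⟩
    · haveI : CharZero M := charZero_of_injective_algebraMap (algebraMap k M).injective
      haveI : Algebra.IsSeparable M L := inferInstance
      refine ⟨ULift.{u} (Fin n), inferInstance, fun j => (D₀ j.down).restrictScalars k, ?_⟩
      have h := finrank_orth_le_separable (k := k) (K₀ := K₀) (s := s) 𝔭 M L
        (fun j : ULift.{u} (Fin n) => (D₀ j.down).restrictScalars k) (fun i c => (D₀ i.down).map_algebraMap c)
        (fun v hv => by
          have h := hind₀ L (fun j => v ⟨j⟩) fun a => by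
            rw [← hv a, ← Equiv.ulift.symm.sum_comp]
            exact Finset.sum_congr rfl fun j _ => mul_comm _ _
          funext i
          exact congrFun h i.down)
      have hc : Fintype.card (ULift.{u} (Fin n)) = n := by simp
      omega
    · haveI := Fact.mk hprime
      haveI : CharP K₀ p := charP_of_injective_algebraMap (algebraMap k K₀).injective p
      haveI : CharP M p := charP_of_injective_algebraMap (algebraMap k M).injective p
      rcases hk with hk | hk
      · exact absurd hk hprime.ne_one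
      obtain ⟨r, b, hb⟩ := Submodule.fg_iff_exists_fin_generating_family.1 hk.fg_top
      exact finrank_orth_le_charP (k := k) (K₀ := K₀) (s := s) 𝔭 M L p D₀ (hind₀ L)
        (fun δ => exists_derivation_extend_complete hA δ) b fun c => by
          obtain ⟨a, ha⟩ := (Submodule.mem_span_range_iff_exists_fun _).1 (hb ▸ (Submodule.mem_top : c ∈ ⊤))
          choose y hy using fun i => (a i).2
          refine ⟨y, ?_⟩
          rw [← ha]
          refine Finset.sum_congr rfl fun i _ => ?_
          show (a i : k) * b i = _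
          rw [← hy i]
          rfl
  obtain ⟨ι, _, D, hD⟩ := key
  haveI := hfinD
  obtain ⟨σ, hσ⟩ := exists_minor_of_orth L 𝔭 (fun a ha => (hp0 a).mpr ha) D f hfp hli (by omega)
  exact ⟨fun i => D (σ i), hσ⟩

theorem exists_minor_complete (p : ℕ) {k K₀ A : Type u} [Field k] [ExpChar k p]
    (hk : p = 1 ∨ Module.Finite (frobenius k p).fieldRange k)
    [Field K₀] [Algebra k K₀] [Algebra.IsGeometricallyReduced k K₀]
    [CommRing A] [IsLocalRing A] [IsNoetherianRing A] [IsAdicComplete (maximalIdeal A) A]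
    [Algebra k A] [Algebra K₀ A] [IsScalarTower k K₀ A] [Module.Finite K₀ (ResidueField A)]
    (hA : CAlgX.IsAdicFormallySmooth K₀ A (maximalIdeal A))
    (𝔭 : Ideal A) [𝔭.IsPrime] {m : ℕ} (f : Fin m → A) (hfp : ∀ i, f i ∈ 𝔭)
    (hli : LinearIndependent 𝔭.ResidueField
      fun i => (1 : 𝔭.ResidueField) ⊗ₜ[A] KaehlerDifferential.D k A (f i)) :
    ∃ D : Fin m → Derivation k A A, Matrix.det (Matrix.of fun i j => D i (f j)) ∉ 𝔭 := by
  haveI := EGA41Lib.FieldFS.formallySmooth_of_isGeometricallyReduced k K₀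
  have hloc := Groth.Agent.S4574.result (AdicFS4.isAdicFormallySmooth_comp (Λ := k) hA) 𝔭
  letI : Module (Localization.AtPrime 𝔭 ⧸ maximalIdeal (Localization.AtPrime 𝔭))
      (ResidueField (Localization.AtPrime 𝔭)) :=
    (inferInstance : Module (ResidueField (Localization.AtPrime 𝔭)) (ResidueField (Localization.AtPrime 𝔭)))
  haveI : IsScalarTower (Localization.AtPrime 𝔭) (Localization.AtPrime 𝔭 ⧸ maximalIdeal (Localization.AtPrime 𝔭))
      (ResidueField (Localization.AtPrime 𝔭)) := IsScalarTower.of_algebraMap_smul fun _ _ => rfl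
  haveI : IsScalarTower k (Localization.AtPrime 𝔭 ⧸ maximalIdeal (Localization.AtPrime 𝔭))
      (ResidueField (Localization.AtPrime 𝔭)) := IsScalarTower.of_algebraMap_smul fun c x => by
        rw [Algebra.smul_def c x]
        rfl
  refine exists_minor_aux p hk hA 𝔭 f hfp 𝔭.ResidueField (fun δ => ?_) hli
  obtain ⟨E, hEmul, hE⟩ := exists_derivation_extend_int hloc (ResidueField (Localization.AtPrime 𝔭)) δ
  refine ⟨Derivation.mk' (AddMonoidHom.toIntLinearMap
    (E.comp (algebraMap A (Localization.AtPrime 𝔭)).toAddMonoidHom)) (fun a b => ?_), fun c => ?_⟩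
  · show E (algebraMap A (Localization.AtPrime 𝔭) (a * b)) = a • E _ + b • E _
    rw [map_mul, hEmul, ← algebraMap_smul (Localization.AtPrime 𝔭) a,
      ← algebraMap_smul (Localization.AtPrime 𝔭) b]
    rfl
  · show E (algebraMap A (Localization.AtPrime 𝔭) (algebraMap k A c)) = _
    rw [← IsScalarTower.algebraMap_apply k A (Localization.AtPrime 𝔭)]
    exact hE c

end Groth.Agent.H4NagJac
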