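import Groth.Agent.H4NagJac.LBound
import Groth.Agent.H4NagJac.Ext
import Groth.Agent.CplKaehler4.PS
import Mathlib

/-!
# The bound on the orthogonal of the Jacobian rows
-/

set_option linter.style.haveILetI false

set_option linter.unusedSectionVars false

universe u

open MvPowerSeries

namespace Groth.Agent.H4NagJac

variable {k K₀ : Type u} [Field k] [Field K₀] [Algebra k K₀] {s : ℕ}

/-- Derivations of power series vanishing on constants and variables are zero, if the values lie in a finite module. -/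
theorem derivation_eq_zero_of_X_C {L : Type u} [Field L] [Algebra k L] [Algebra K₀ L]
    [Algebra (MvPowerSeries (Fin s) K₀) L] [IsScalarTower K₀ (MvPowerSeries (Fin s) K₀) L]
    [IsScalarTower k K₀ L] (H : Derivation k (MvPowerSeries (Fin s) K₀) L)
    (N : Submodule (MvPowerSeries (Fin s) K₀) L) [Module.Finite (MvPowerSeries (Fin s) K₀) N] (hN : ∀ f, H f ∈ N)
    (hC : ∀ c, H (C c) = 0) (hX : ∀ l, H (X l) = 0) (f : MvPowerSeries (Fin s) K₀) : H f = 0 := by
  let H₀ : Derivation K₀ (MvPowerSeries (Fin s) K₀) N := Derivation.mk'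
    { toFun := fun g => (⟨H g, hN g⟩ : N)
      map_add' := fun a b => Subtype.ext (map_add H a b)
      map_smul' := fun c g => Subtype.ext (by
        show H (c • g) = c • H g
        rw [Algebra.smul_def, Derivation.leibniz, MvPowerSeries.algebraMap_apply, Algebra.algebraMap_self,
          RingHom.id_apply, hC, smul_zero, add_zero, ← algebraMap_smul (MvPowerSeries (Fin s) K₀) c (H g),
          MvPowerSeries.algebraMap_apply, Algebra.algebraMap_self, RingHom.id_apply]) }
    fun a b => Subtype.ext (H.leibniz a b)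
  haveI := CplKaehler4.isHausdorff_vars (k := K₀) (n := s) N
  have h0 : H₀ = 0 := CplKaehler4.derivation_ext fun l => Subtype.ext (hX l)
  exact congrArg Subtype.val (DFunLike.congr_fun h0 f)

variable {A : Type u} [CommRing A] [Algebra k A] [Algebra K₀ A] [IsScalarTower k K₀ A] (𝔭 : Ideal A)
  [Algebra (MvPowerSeries (Fin s) K₀) (A ⧸ 𝔭)] [IsScalarTower K₀ (MvPowerSeries (Fin s) K₀) (A ⧸ 𝔭)]
  [Module.Finite (MvPowerSeries (Fin s) K₀) (A ⧸ 𝔭)]
  (M : Type u) [Field M] [Algebra (MvPowerSeries (Fin s) K₀) M] [IsFractionRing (MvPowerSeries (Fin s) K₀) M]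
  [Algebra k M] [IsScalarTower k (MvPowerSeries (Fin s) K₀) M]
  (L : Type u) [Field L] [Algebra A L] [Algebra (A ⧸ 𝔭) L] [IsScalarTower A (A ⧸ 𝔭) L] [IsFractionRing (A ⧸ 𝔭) L]
  [Algebra k L] [IsScalarTower k A L] [Algebra K₀ L] [IsScalarTower k K₀ L] [IsScalarTower K₀ A L]
  [Algebra (MvPowerSeries (Fin s) K₀) L] [IsScalarTower (MvPowerSeries (Fin s) K₀) (A ⧸ 𝔭) L]
  [IsScalarTower K₀ (MvPowerSeries (Fin s) K₀) L]
  [Algebra M L] [IsScalarTower (MvPowerSeries (Fin s) K₀) M L] [IsScalarTower k M L]

/-- The derivation of the residue field attached to an orthogonal vector. -/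
theorem exists_derivation_orth {ι : Type u} [Fintype ι] (D : ι → Derivation k A A) (δ : ι → Derivation k K₀ K₀)
    (hD : ∀ i c, D i (algebraMap K₀ A c) = algebraMap K₀ A (δ i c)) (v : ι → L) (hv : v ∈ orthD L 𝔭 D) :
    ∃ E : Derivation k L L, (∀ a, E (algebraMap A L a) = ∑ j, algebraMap A L (D j a) * v j) ∧
      ∀ x : M, E (algebraMap M L x) =
        (∑ l, E (algebraMap M L (algebraMap _ M (X l : MvPowerSeries (Fin s) K₀))) *
          algebraMap M L (toFrac M ((pderiv K₀ l).restrictScalars k) x)) +
        ∑ i, v i * algebraMap M L (toFrac (s := s) M (hatDer (δ i)) x) := by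
  classical
  let dA : A → L := fun a => ∑ j, algebraMap A L (D j a) * v j
  have hadd : ∀ a b, dA (a + b) = dA a + dA b := fun a b => by
    simp only [dA, map_add, add_mul, Finset.sum_add_distrib]
  have hmul : ∀ a b, dA (a * b) = algebraMap A L a * dA b + algebraMap A L b * dA a := fun a b => by
    simp only [dA, Derivation.leibniz, smul_eq_mul, map_add, map_mul, add_mul, Finset.sum_add_distrib,
      Finset.mul_sum, mul_assoc]
  haveI : IsScalarTower k (A ⧸ 𝔭) L := IsScalarTower.of_algebraMap_eq fun c => by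
    rw [IsScalarTower.algebraMap_apply k A (A ⧸ 𝔭), ← IsScalarTower.algebraMap_apply A (A ⧸ 𝔭) L,
      ← IsScalarTower.algebraMap_apply]
  have hzero : ∀ g ∈ 𝔭, dA g = 0 := fun g hg => hv g hg
  let sec := Function.surjInv (Ideal.Quotient.mk_surjective (I := 𝔭))
  have hsec : ∀ x, Ideal.Quotient.mk 𝔭 (sec x) = x := Function.surjInv_eq Ideal.Quotient.mk_surjective
  have hwell : ∀ a b, Ideal.Quotient.mk 𝔭 a = Ideal.Quotient.mk 𝔭 b → dA a = dA b := fun a b h => by
    have h1 := hadd (a - b) b
    rw [sub_add_cancel, hzero _ (Ideal.Quotient.eq.mp h), zero_add] at h1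
    exact h1
  let dB : Derivation k (A ⧸ 𝔭) L := Derivation.mk'
    { toFun := fun x => dA (sec x)
      map_add' := fun x y => by
        rw [← hadd]
        exact hwell _ _ (by rw [map_add, hsec, hsec, hsec])
      map_smul' := fun c x => by
        rw [hwell _ (c • sec x) (by rw [hsec, ← Ideal.Quotient.mkₐ_eq_mk k, map_smul, Ideal.Quotient.mkₐ_eq_mk, hsec]),
          Algebra.smul_def, hmul, RingHom.id_apply, ← IsScalarTower.algebraMap_apply, ← Algebra.smul_def]
        have : dA (algebraMap k A c) = 0 := by simp [dA]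
        rw [this, mul_zero, add_zero] }
    fun x y => by
      show dA (sec (x * y)) = x • dA (sec y) + y • dA (sec x)
      rw [hwell _ (sec x * sec y) (by rw [map_mul, hsec, hsec, hsec]), hmul, Algebra.smul_def, Algebra.smul_def,
        IsScalarTower.algebraMap_apply A (A ⧸ 𝔭) L, IsScalarTower.algebraMap_apply A (A ⧸ 𝔭) L (sec y)]
      simp only [Ideal.Quotient.algebraMap_eq, hsec]
  obtain ⟨E, hE⟩ := exists_derivation_fraction (S := L) (nonZeroDivisors (A ⧸ 𝔭)) dB
  have hEA : ∀ a, E (algebraMap A L a) = dA a := fun a => by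
    rw [IsScalarTower.algebraMap_apply A (A ⧸ 𝔭) L, hE]
    exact hwell _ _ (hsec _)
  refine ⟨E, hEA, fun x => ?_⟩
  haveI : IsScalarTower k M M := inferInstance
  let EM : Derivation k M L := E.compAlgebraMap M
  let G : Derivation k M L :=
    (∑ l, E (algebraMap M L (algebraMap _ M (X l : MvPowerSeries (Fin s) K₀))) •
      (Algebra.linearMap M L).compDer (toFrac M ((pderiv K₀ l).restrictScalars k))) +
    ∑ i, v i • (Algebra.linearMap M L).compDer (toFrac (s := s) M (hatDer (δ i)))
  have hsum : ∀ {κ : Type u} [Fintype κ] (F : κ → Derivation k M L) (y : M), (∑ l, F l) y = ∑ l, F l y :=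
    fun F y => (congrFun (map_sum Derivation.coeFnAddMonoidHom F Finset.univ) y).trans (Finset.sum_apply _ _ _)
  have hsum' : ∀ (F : Fin s → Derivation k M L) (y : M), (∑ l, F l) y = ∑ l, F l y :=
    fun F y => (congrFun (map_sum Derivation.coeFnAddMonoidHom F Finset.univ) y).trans (Finset.sum_apply _ _ _)
  have hG : ∀ y, G y = (∑ l, E (algebraMap M L (algebraMap _ M (X l : MvPowerSeries (Fin s) K₀))) *
          algebraMap M L (toFrac M ((pderiv K₀ l).restrictScalars k) y)) +
        ∑ i, v i * algebraMap M L (toFrac (s := s) M (hatDer (δ i)) y) := fun y => by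
    rw [Derivation.add_apply, hsum', hsum]
    rfl
  suffices hEG : EM = G by rw [← hG, ← hEG]; rfl
  refine derivation_fraction_ext (B := MvPowerSeries (Fin s) K₀) (nonZeroDivisors _) EM G fun f => ?_
  haveI : IsScalarTower k (MvPowerSeries (Fin s) K₀) L := IsScalarTower.of_algebraMap_eq fun c => by
    rw [IsScalarTower.algebraMap_apply k M L, IsScalarTower.algebraMap_apply k (MvPowerSeries (Fin s) K₀) M,
      ← IsScalarTower.algebraMap_apply]
  let H : Derivation k (MvPowerSeries (Fin s) K₀) L := (EM - G).compAlgebraMap (MvPowerSeries (Fin s) K₀)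
  suffices h : H f = 0 from sub_eq_zero.mp h
  have hPA : ∀ g, ∃ a, algebraMap A L a = algebraMap M L (algebraMap (MvPowerSeries (Fin s) K₀) M g) := fun g => by
    obtain ⟨a, ha⟩ := Ideal.Quotient.mk_surjective (algebraMap (MvPowerSeries (Fin s) K₀) (A ⧸ 𝔭) g)
    refine ⟨a, ?_⟩
    rw [IsScalarTower.algebraMap_apply A (A ⧸ 𝔭) L, Ideal.Quotient.algebraMap_eq, ha,
      ← IsScalarTower.algebraMap_apply, ← IsScalarTower.algebraMap_apply]
  let T : Set L := Set.range v ∪ Set.range fun l => E (algebraMap M L (algebraMap _ M (X l : MvPowerSeries (Fin s) K₀)))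
  let N₁ : Submodule (A ⧸ 𝔭) L := Submodule.span (A ⧸ 𝔭) T
  haveI : Module.Finite (A ⧸ 𝔭) N₁ := Module.Finite.span_of_finite _ ((Set.finite_range _).union (Set.finite_range _))
  let N := N₁.restrictScalars (MvPowerSeries (Fin s) K₀)
  haveI : Module.Finite (MvPowerSeries (Fin s) K₀) N :=
    (Module.Finite.trans (A ⧸ 𝔭) N₁ : Module.Finite (MvPowerSeries (Fin s) K₀) N₁)
  refine derivation_eq_zero_of_X_C H N (fun g => ?_) (fun c => ?_) (fun l => ?_) f
  · show EM (algebraMap _ M g) - G (algebraMap _ M g) ∈ N₁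
    refine sub_mem ?_ ?_
    · obtain ⟨a, ha⟩ := hPA g
      show E (algebraMap M L (algebraMap _ M g)) ∈ N₁
      rw [← ha, hEA]
      refine Submodule.sum_mem _ fun j _ => ?_
      rw [IsScalarTower.algebraMap_apply A (A ⧸ 𝔭) L, ← Algebra.smul_def]
      exact N₁.smul_mem _ (Submodule.subset_span (Or.inl ⟨j, rfl⟩))
    · have hm : ∀ (y : MvPowerSeries (Fin s) K₀), ∀ t ∈ T, t * algebraMap M L (algebraMap _ M y) ∈ N₁ := by
        intro y t ht
        rw [← IsScalarTower.algebraMap_apply, IsScalarTower.algebraMap_apply (MvPowerSeries (Fin s) K₀) (A ⧸ 𝔭) L,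
          mul_comm, ← Algebra.smul_def]
        exact N₁.smul_mem _ (Submodule.subset_span ht)
      rw [hG]
      refine add_mem (Submodule.sum_mem _ fun l _ => ?_) (Submodule.sum_mem _ fun i _ => ?_)
      · rw [toFrac_algebraMap]
        exact hm _ _ (Or.inr ⟨l, rfl⟩)
      · rw [toFrac_algebraMap]
        exact hm _ _ (Or.inl ⟨i, rfl⟩)
  · show EM (algebraMap _ M (C c)) - G (algebraMap _ M (C c)) = 0
    rw [sub_eq_zero, hG, Finset.sum_eq_zero (fun l _ => by
      rw [toFrac_algebraMap, show ((pderiv K₀ l).restrictScalars k) (C c : MvPowerSeries (Fin s) K₀) = 0 from pderiv_C,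
        map_zero, map_zero, mul_zero]), zero_add]
    have hCc : ∀ e : K₀, algebraMap M L (algebraMap _ M (C e : MvPowerSeries (Fin s) K₀)) =
        algebraMap A L (algebraMap K₀ A e) := fun e => by
      rw [← IsScalarTower.algebraMap_apply, show (C e : MvPowerSeries (Fin s) K₀) = algebraMap K₀ _ e by
          rw [MvPowerSeries.algebraMap_apply, Algebra.algebraMap_self, RingHom.id_apply], ← IsScalarTower.algebraMap_apply K₀ (MvPowerSeries (Fin s) K₀) L,
        ← IsScalarTower.algebraMap_apply K₀ A L]
    show E (algebraMap M L _) = _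
    rw [hCc, hEA]
    refine Finset.sum_congr rfl fun i _ => ?_
    rw [hD, toFrac_algebraMap, hatDer_C, hCc, mul_comm]
  · show EM (algebraMap _ M (X l)) - G (algebraMap _ M (X l)) = 0
    rw [sub_eq_zero, hG, Finset.sum_eq_single l (fun i _ hi => by
        rw [toFrac_algebraMap, show ((pderiv K₀ i).restrictScalars k) (X l : MvPowerSeries (Fin s) K₀) = 0 from
          pderiv_X_of_ne (Ne.symm hi), map_zero, map_zero, mul_zero])
      (fun hh => absurd (Finset.mem_univ l) hh), toFrac_algebraMap,
      show ((pderiv K₀ l).restrictScalars k) (X l : MvPowerSeries (Fin s) K₀) = 1 from pderiv_X_self, map_one, map_one,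
      mul_one, Finset.sum_eq_zero (fun i _ => by rw [toFrac_algebraMap, hatDer_X, map_zero, map_zero, mul_zero]),
      add_zero]
    rfl

/-- The orthogonal of the rows is no larger than the derivations it induces. -/
theorem finrank_orth_le_aux {ι : Type u} [Fintype ι] (D : ι → Derivation k A A)
    (hind : ∀ v : ι → L, (∀ a, ∑ j, algebraMap A L (D j a) * v j = 0) → v = 0)
    {W : Type u} [AddCommGroup W] [Module L W] [Module.Finite L W] (R : W →ₗ[L] (A → L))
    (hR : ∀ v ∈ orthD L 𝔭 D, (fun a => ∑ j, algebraMap A L (D j a) * v j) ∈ LinearMap.range R) :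
    Module.finrank L (orthD L 𝔭 D) ≤ Module.finrank L W := by
  let T : (ι → L) →ₗ[L] (A → L) :=
    { toFun := fun v a => ∑ j, algebraMap A L (D j a) * v j
      map_add' := fun v w => by funext a; simp [mul_add, Finset.sum_add_distrib]
      map_smul' := fun c v => by funext a; simp [Finset.mul_sum, mul_left_comm] }
  let T' : orthD L 𝔭 D →ₗ[L] LinearMap.range R := (T.comp (orthD L 𝔭 D).subtype).codRestrict _ fun v => hR v.1 v.2
  have hT' : Function.Injective T' := by
    rw [injective_iff_map_eq_zero]
    intro v hv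
    exact Subtype.ext (hind v.1 fun a => congrFun (congrArg Subtype.val hv) a)
  exact (LinearMap.finrank_le_finrank_of_injective hT').trans (LinearMap.finrank_range_le R)

include M in
/-- The bound in characteristic zero, or for separable `L` over `M`. -/
theorem finrank_orth_le_separable {ι : Type u} [Fintype ι] (D : ι → Derivation k A A)
    (hD : ∀ i c, D i (algebraMap K₀ A c) = 0) [Algebra.IsSeparable M L]
    (hind : ∀ v : ι → L, (∀ a, ∑ j, algebraMap A L (D j a) * v j = 0) → v = 0) :
    Module.finrank L (orthD L 𝔭 D) ≤ s := by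
  classical
  let T : orthD L 𝔭 D →ₗ[L] (Fin s → L) :=
    { toFun := fun v l => ∑ j, algebraMap A L (D j (Function.surjInv (Ideal.Quotient.mk_surjective (I := 𝔭))
        (algebraMap (MvPowerSeries (Fin s) K₀) (A ⧸ 𝔭) (X l)))) * v.1 j
      map_add' := fun v w => by funext a; simp [mul_add, Finset.sum_add_distrib]
      map_smul' := fun c v => by funext a; simp [Finset.mul_sum, mul_left_comm] }
  suffices hT : Function.Injective T by
    simpa using LinearMap.finrank_le_finrank_of_injective hT
  rw [injective_iff_map_eq_zero]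
  intro v hv
  refine Subtype.ext (hind v.1 ?_)
  obtain ⟨E, hEA, hEM⟩ := exists_derivation_orth (k := k) (s := s) 𝔭 M L D (fun _ => 0)
    (fun i c => by rw [hD i c, Derivation.zero_apply, map_zero]) v.1 v.2
  have hX : ∀ l, E (algebraMap M L (algebraMap _ M (X l : MvPowerSeries (Fin s) K₀))) = 0 := fun l => by
    rw [← IsScalarTower.algebraMap_apply, IsScalarTower.algebraMap_apply (MvPowerSeries (Fin s) K₀) (A ⧸ 𝔭) L,
      ← Function.surjInv_eq (Ideal.Quotient.mk_surjective (I := 𝔭)) (algebraMap (MvPowerSeries (Fin s) K₀) (A ⧸ 𝔭) (X l)),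
      show ∀ z, algebraMap (A ⧸ 𝔭) L (Ideal.Quotient.mk 𝔭 z) = algebraMap A L z from
        fun z => (IsScalarTower.algebraMap_apply A (A ⧸ 𝔭) L z).symm, hEA]
    exact congrFun hv l
  have hzero : toFrac (s := s) M (hatDer (0 : Derivation k K₀ K₀)) = 0 := by
    refine derivation_fraction_ext (nonZeroDivisors (MvPowerSeries (Fin s) K₀)) _ _ fun f => ?_
    rw [toFrac_algebraMap, Derivation.zero_apply, show hatDer (0 : Derivation k K₀ K₀) f = 0 from
      MvPowerSeries.ext fun n => by rw [coeff_hatDer, Derivation.zero_apply, map_zero], map_zero]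
  have hM : ∀ x : M, E (algebraMap M L x) = 0 := fun x => by
    rw [hEM]
    simp [hX, hzero]
  haveI : Algebra.FormallyEtale M L := Algebra.FormallyEtale.of_isSeparable M L
  let E' : Derivation M L L := Derivation.mk'
    { toFun := E
      map_add' := map_add E
      map_smul' := fun c y => by
        rw [Algebra.smul_def, Derivation.leibniz, hM, smul_zero, add_zero, RingHom.id_apply, algebraMap_smul] }
    fun a b => E.leibniz a b
  intro a
  rw [← hEA]
  have h := E'.liftKaehlerDifferential_comp_D (algebraMap A L a)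
  rw [Subsingleton.elim (KaehlerDifferential.D M L (algebraMap A L a)) 0, map_zero] at h
  exact h.symm

section CharP

variable (p : ℕ) [hp : Fact p.Prime] [CharP K₀ p] [CharP M p] [Module.Finite M L]

include M in
/-- The bound in positive characteristic. -/
theorem finrank_orth_le_charP {n : ℕ} (D₀ : Fin n → Derivation K₀ A A)
    (hind₀ : ∀ v : Fin n → L, (∀ a, ∑ j, v j * algebraMap A L (D₀ j a) = 0) → v = 0)
    (hext : ∀ δ : Derivation k K₀ K₀, ∃ E : Derivation k A A, ∀ c, E (algebraMap K₀ A c) = algebraMap K₀ A (δ c))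
    {m : ℕ} (b : Fin m → k) (hb : ∀ c : k, ∃ r : Fin m → k, c = ∑ i, r i ^ p * b i)
    [Module.Finite L (EGA41.imperfection ℤ k L)] :
    ∃ (ι : Type u) (_ : Fintype ι) (D : ι → Derivation k A A),
      Module.finrank L (orthD L 𝔭 D) + n ≤ Fintype.card ι + s + Module.finrank L (EGA41.imperfection ℤ k L) := by
  classical
  obtain ⟨B, -, -, hB⟩ := PBasisLib.exists_isPBasis p k (Set.empty_subset (Set.univ : Set K₀))
    (fun t ht => absurd ht (Set.notMem_empty t))
    (eq_top_iff.mpr fun y _ => PBasisLib.subset_Fp p k _ (Set.mem_univ y))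
  obtain ⟨S, hfin, hdim⟩ := exists_finset_bound (s := s) p M B hB b hb L
  choose E hE using fun γ : S => hext (dual p B hB γ.1)
  let D : ULift.{u} (Fin n) ⊕ S → Derivation k A A :=
    Sum.elim (fun j => (D₀ j.down).restrictScalars k) E
  let δ : ULift.{u} (Fin n) ⊕ S → Derivation k K₀ K₀ := Sum.elim (fun _ => 0) (fun γ => dual p B hB γ.1)
  have hD : ∀ i c, D i (algebraMap K₀ A c) = algebraMap K₀ A (δ i c) := by
    rintro (j | γ) c
    · show D₀ j.down (algebraMap K₀ A c) = algebraMap K₀ A 0
      rw [Derivation.map_algebraMap, map_zero]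
    · exact hE γ c
  have hind : ∀ v : ULift.{u} (Fin n) ⊕ S → L, (∀ a, ∑ j, algebraMap A L (D j a) * v j = 0) → v = 0 := by
    intro v hv
    have h1 : ∀ γ : S, v (Sum.inr γ) = 0 := by
      intro γ
      have h := hv (algebraMap K₀ A ((γ.1 : B) : K₀))
      rw [Finset.sum_eq_single (Sum.inr γ)] at h
      · rw [hD, show δ (Sum.inr γ) ((γ.1 : B) : K₀) = 1 from dual_self p B hB γ.1, map_one, map_one, one_mul] at h
        exact h
      · rintro (j | γ') _ hne
        · rw [hD, show δ (Sum.inl j) ((γ.1 : B) : K₀) = 0 from rfl, map_zero, map_zero, zero_mul]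
        · rw [hD, show δ (Sum.inr γ') ((γ.1 : B) : K₀) = 0 from
            dual_of_ne p B hB fun e => hne (congrArg Sum.inr (Subtype.ext e.symm)), map_zero, map_zero, zero_mul]
      · exact fun h => absurd (Finset.mem_univ _) h
    have h2 := hind₀ (fun j => v (Sum.inl ⟨j⟩)) fun a => by
      rw [← hv a, Fintype.sum_sum_type, add_eq_left.mpr, ← Equiv.ulift.symm.sum_comp]
      · exact Finset.sum_congr rfl fun j _ => mul_comm _ _
      · exact Finset.sum_eq_zero fun γ _ => by rw [h1, mul_zero]
    funext i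
    rcases i with j | γ
    · exact congrFun h2 j.down
    · exact h1 γ
  refine ⟨_, inferInstance, D, ?_⟩
  let KS := kS (s := s) p M B hB S
  haveI := hfin
  let W := Ω[L⁄KS] →ₗ[L] L
  let R : W →ₗ[L] (A → L) :=
    { toFun := fun φ a => φ (KaehlerDifferential.D KS L (algebraMap A L a))
      map_add' := fun φ ψ => rfl
      map_smul' := fun c φ => rfl }
  have hle := finrank_orth_le_aux (k := k) 𝔭 L D hind R fun v hv => by
    obtain ⟨F, hFA, hFM⟩ := exists_derivation_orth (k := k) (s := s) 𝔭 M L D δ hD v hv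
    have hF0 : ∀ x : KS, F (algebraMap M L (x : M)) = 0 := fun x => by
      rw [hFM]
      have h1 := mem_derKer.mp x.2
      rw [Finset.sum_eq_zero (fun l _ => by
        rw [show toFrac M ((pderiv K₀ l).restrictScalars k) (x : M) = 0 from h1 (Sum.inl ⟨l⟩), map_zero, mul_zero]),
        zero_add]
      refine Finset.sum_eq_zero fun i _ => ?_
      rcases i with j | γ
      · have hzero : toFrac (s := s) M (hatDer (0 : Derivation k K₀ K₀)) = 0 := by
          refine derivation_fraction_ext (nonZeroDivisors (MvPowerSeries (Fin s) K₀)) _ _ fun f => ?_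
          rw [toFrac_algebraMap, Derivation.zero_apply, show hatDer (0 : Derivation k K₀ K₀) f = 0 from
            MvPowerSeries.ext fun n => by rw [coeff_hatDer, Derivation.zero_apply, map_zero], map_zero]
        show v _ * algebraMap M L (toFrac (s := s) M (hatDer (0 : Derivation k K₀ K₀)) (x : M)) = 0
        rw [hzero, Derivation.zero_apply, map_zero, mul_zero]
      · rw [show toFrac (s := s) M (hatDer (δ (Sum.inr γ))) (x : M) = 0 from h1 (Sum.inr γ), map_zero, mul_zero]
    let F' : Derivation KS L L := Derivation.mk'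
      { toFun := F
        map_add' := map_add F
        map_smul' := fun c y => by
          rw [Algebra.smul_def, Derivation.leibniz, RingHom.id_apply, algebraMap_smul,
            show F (algebraMap KS L c) = 0 from hF0 c, smul_zero, add_zero] }
      fun a b => F.leibniz a b
    refine ⟨F'.liftKaehlerDifferential, funext fun a => ?_⟩
    show F'.liftKaehlerDifferential (KaehlerDifferential.D KS L (algebraMap A L a)) = _
    rw [Derivation.liftKaehlerDifferential_comp_D]
    exact hFA a
  have hW : Module.finrank L W = Module.finrank L (Ω[L⁄KS]) := Subspace.dual_finrank_eq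
  have hcard : Fintype.card (ULift.{u} (Fin n) ⊕ S) = n + S.card := by simp
  change Module.finrank L (Ω[L⁄KS]) ≤ _ at hdim
  omega

end CharP

end Groth.Agent.H4NagJac
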