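import Groth.Agent.H4NagJac.ImageRank
import Groth.Agent.PBasisLib.Admissible
import Mathlib

/-!
# The continuous derivations of a power series field in characteristic `p`
-/

set_option linter.style.haveILetI false

universe u

open MvPowerSeries EGA41
open scoped Classical

namespace Groth.Agent.H4NagJac

/-- The field of elements killed by a family of derivations. -/
noncomputable def derKer {k F : Type u} [Field k] [Field F] [Algebra k F] {ι : Type u}
    (D : ι → Derivation k F F) : IntermediateField k F where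
  carrier := {x | ∀ i, D i x = 0}
  add_mem' := fun {a b} ha hb i => by rw [map_add, ha i, hb i, add_zero]
  mul_mem' := fun {a b} ha hb i => by rw [Derivation.leibniz, ha i, hb i, smul_zero, smul_zero, add_zero]
  one_mem' := fun i => (D i).map_one_eq_zero
  zero_mem' := fun i => map_zero (D i)
  algebraMap_mem' := fun r i => (D i).map_algebraMap r
  inv_mem' := fun a ha i => by rw [Derivation.leibniz_inv, ha i, smul_zero]

theorem mem_derKer {k F : Type u} [Field k] [Field F] [Algebra k F] {ι : Type u}
    {D : ι → Derivation k F F} {x : F} : x ∈ derKer D ↔ ∀ i, D i x = 0 := Iff.rfl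

section Hat

variable {k K : Type u} [CommRing k] [CommRing K] [Algebra k K] {σ : Type}

/-- A derivation acting on coefficients, as a function. -/
noncomputable def hatFun (δ : Derivation k K K) (f : MvPowerSeries σ K) : MvPowerSeries σ K :=
  fun n => δ (coeff n f)

theorem coeff_hatFun (δ : Derivation k K K) (f : MvPowerSeries σ K) (n : σ →₀ ℕ) :
    coeff n (hatFun δ f) = δ (coeff n f) := rfl

/-- The derivation of power series acting on coefficients. -/
noncomputable def hatDer (δ : Derivation k K K) : Derivation k (MvPowerSeries σ K) (MvPowerSeries σ K) :=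
  Derivation.mk'
    { toFun := hatFun δ
      map_add' := fun f g => by
        ext n
        show δ (coeff n (f + g)) = δ (coeff n f) + δ (coeff n g)
        rw [map_add, map_add]
      map_smul' := fun c f => by
        ext n
        show δ (coeff n (c • f)) = c • δ (coeff n f)
        rw [show coeff n (c • f) = c • coeff n f from rfl, Derivation.map_smul] }
    fun f g => by
      classical
      ext n
      show δ (coeff n (f * g)) = coeff n (f * hatFun δ g + g * hatFun δ f)
      rw [map_add, mul_comm g, coeff_mul, coeff_mul, coeff_mul, map_sum, ← Finset.sum_add_distrib]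
      refine Finset.sum_congr rfl fun x _ => ?_
      rw [Derivation.leibniz]
      simp only [smul_eq_mul]
      rw [coeff_hatFun, coeff_hatFun]
      ring

theorem coeff_hatDer (δ : Derivation k K K) (f : MvPowerSeries σ K) (n : σ →₀ ℕ) :
    coeff n (hatDer δ f) = δ (coeff n f) := rfl

theorem hatDer_X (δ : Derivation k K K) (j : σ) : hatDer δ (X j : MvPowerSeries σ K) = 0 := by
  classical
  ext n
  rw [coeff_hatDer, map_zero, coeff_X]
  split_ifs
  · exact δ.map_one_eq_zero
  · exact map_zero δ

theorem hatDer_C (δ : Derivation k K K) (c : K) : hatDer δ (C c : MvPowerSeries σ K) = C (δ c) := by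
  classical
  ext n
  rw [coeff_hatDer, coeff_C, coeff_C]
  split_ifs
  · rfl
  · exact map_zero δ

end Hat

section Field

variable {k K₀ : Type u} [Field k] [Field K₀] [Algebra k K₀] (p : ℕ) [hp : Fact p.Prime] [CharP K₀ p] {s : ℕ}
  (M : Type u) [Field M] [Algebra (MvPowerSeries (Fin s) K₀) M] [IsFractionRing (MvPowerSeries (Fin s) K₀) M]
  [Algebra k M] [IsScalarTower k (MvPowerSeries (Fin s) K₀) M]
  (B : Set K₀) (hB : IsPBasis p k (Subtype.val : B → K₀))

/-- The derivation dual to a member of a `p`-basis. -/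
noncomputable def dual (b : B) : Derivation k K₀ K₀ :=
  (PBasisLib.exists_derivation hB (L := K₀) (Pi.single b (1 : K₀))).choose

theorem dual_self (b : B) : dual p B hB b (b : K₀) = 1 := by
  classical
  have := (PBasisLib.exists_derivation hB (L := K₀) (Pi.single b (1 : K₀))).choose_spec b
  rw [Pi.single_eq_same] at this
  exact this

theorem dual_of_ne {b c : B} (h : c ≠ b) : dual p B hB b (c : K₀) = 0 := by
  classical
  have := (PBasisLib.exists_derivation hB (L := K₀) (Pi.single b (1 : K₀))).choose_spec c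
  rw [Pi.single_eq_of_ne h] at this
  exact this

theorem mem_Fp_of_dual_eq_zero {c : K₀} (h : ∀ b : B, dual p B hB b c = 0) : c ∈ PBasisLib.Fp p k (∅ : Set K₀) := by
  classical
  obtain ⟨bb, hbb⟩ := PBasisLib.exists_basis_D hB
  have hcoord : ∀ (b : B) ω, (dual p B hB b).liftKaehlerDifferential ω = bb.repr ω b := by
    intro b
    have : (dual p B hB b).liftKaehlerDifferential = (Finsupp.lapply b).comp bb.repr.toLinearMap :=
      bb.ext fun i => by
        rw [hbb i, Derivation.liftKaehlerDifferential_comp_D, ← hbb i]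
        simp only [LinearMap.comp_apply, LinearEquiv.coe_coe, Module.Basis.repr_self, Finsupp.lapply_apply]
        rcases eq_or_ne i b with rfl | hne
        · rw [dual_self, Finsupp.single_eq_same]
        · rw [dual_of_ne p B hB hne, Finsupp.single_eq_of_ne (Ne.symm hne)]
    exact fun ω => LinearMap.congr_fun this ω
  have hd : KaehlerDifferential.D k K₀ c = 0 := bb.repr.injective (by
    ext b
    rw [← hcoord, Derivation.liftKaehlerDifferential_comp_D, h, map_zero, Finsupp.zero_apply])
  by_contra hc
  have hfree : PBasisLib.Free p k (fun _ : PUnit.{u+1} => c) := fun a ha => hc (by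
    rwa [show ({b : PUnit.{u+1} | b ≠ a}) = ∅ from Set.eq_empty_iff_forall_notMem.mpr fun b hb =>
      hb (Subsingleton.elim _ _), Set.image_empty] at ha)
  exact ((PBasisLib.free_iff_linearIndependent_D p k _).mp hfree).ne_zero PUnit.unit hd

theorem exists_sum_of_mem_Fp {m : ℕ} (b : Fin m → k)
    (hb : ∀ c : k, ∃ r : Fin m → k, c = ∑ i, r i ^ p * b i) {c : K₀} (hc : c ∈ PBasisLib.Fp p k (∅ : Set K₀)) :
    ∃ y : Fin m → K₀, c = ∑ i, algebraMap k K₀ (b i) * y i ^ p := by
  classical
  rw [PBasisLib.mem_Fp_iff, Algebra.adjoin_empty, Algebra.mem_bot] at hc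
  obtain ⟨⟨x, hx⟩, rfl⟩ := hc
  show ∃ y : Fin m → K₀, x = _
  have hx' : x ∈ Submodule.span k (Set.range fun y : K₀ => y ^ p) := by
    have h1 : x ∈ Subalgebra.toSubmodule (Algebra.adjoin k (Set.range fun y : K₀ => y ^ p)) := hx
    rw [Algebra.adjoin_eq_span] at h1
    refine Submodule.span_mono ?_ h1
    intro z hz
    induction hz using Submonoid.closure_induction with
    | mem z hz => exact hz
    | one => exact ⟨1, one_pow _⟩
    | mul z w _ _ hz hw =>
      obtain ⟨y, rfl⟩ := hz
      obtain ⟨y', rfl⟩ := hw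
      exact ⟨y * y', mul_pow _ _ _⟩
  clear hx
  haveI : ExpChar K₀ p := ExpChar.prime hp.out
  induction hx' using Submodule.span_induction with
  | mem z hz =>
    obtain ⟨y, rfl⟩ := hz
    obtain ⟨r, hr⟩ := hb 1
    refine ⟨fun i => algebraMap k K₀ (r i) * y, ?_⟩
    have h1 : (1 : K₀) = ∑ i, algebraMap k K₀ (r i) ^ p * algebraMap k K₀ (b i) := by
      rw [← map_one (algebraMap k K₀), hr, map_sum]
      simp only [map_mul, map_pow]
    calc y ^ p = 1 * y ^ p := (one_mul _).symm
      _ = _ := by rw [h1, Finset.sum_mul]; exact Finset.sum_congr rfl fun i _ => by ring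
  | zero => exact ⟨0, by simp [zero_pow hp.out.ne_zero]⟩
  | add z w _ _ hz hw =>
    obtain ⟨y, rfl⟩ := hz
    obtain ⟨y', rfl⟩ := hw
    refine ⟨y + y', ?_⟩
    simp only [Pi.add_apply, add_pow_expChar, mul_add, Finset.sum_add_distrib]
  | smul a z _ hz =>
    obtain ⟨y, rfl⟩ := hz
    choose r hr using fun i => hb (a * b i)
    refine ⟨fun l => ∑ i, algebraMap k K₀ (r i l) * y i, ?_⟩
    simp only [sum_pow_char, mul_pow, Finset.mul_sum, Finset.smul_sum, Algebra.smul_def]
    rw [Finset.sum_comm]
    refine Finset.sum_congr rfl fun i _ => ?_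
    rw [← mul_assoc, ← map_mul, hr i, map_sum, Finset.sum_mul]
    refine Finset.sum_congr rfl fun l _ => ?_
    rw [map_mul, map_pow]
    ring

/-- The derivation of the fraction field extending a derivation of power series. -/
noncomputable def toFrac (D : Derivation k (MvPowerSeries (Fin s) K₀) (MvPowerSeries (Fin s) K₀)) :
    Derivation k M M :=
  (exists_derivation_fraction (S := M) (nonZeroDivisors (MvPowerSeries (Fin s) K₀))
    ((Algebra.linearMap (MvPowerSeries (Fin s) K₀) M).compDer D)).choose

theorem toFrac_algebraMap (D : Derivation k (MvPowerSeries (Fin s) K₀) (MvPowerSeries (Fin s) K₀))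
    (f : MvPowerSeries (Fin s) K₀) :
    toFrac M D (algebraMap _ M f) = algebraMap _ M (D f) :=
  (exists_derivation_fraction (S := M) (nonZeroDivisors (MvPowerSeries (Fin s) K₀))
    ((Algebra.linearMap (MvPowerSeries (Fin s) K₀) M).compDer D)).choose_spec f

/-- The continuous derivations attached to a finite part of the `p`-basis. -/
noncomputable def psDer (S : Finset B) :
    ULift.{u} (Fin s) ⊕ S → Derivation k (MvPowerSeries (Fin s) K₀) (MvPowerSeries (Fin s) K₀) :=
  Sum.elim (fun j => (pderiv K₀ j.down).restrictScalars k) (fun b => hatDer (dual p B hB b.1))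

/-- The common kernel in the fraction field. -/
noncomputable def kS (S : Finset B) : IntermediateField k M := derKer fun i => toFrac (s := s) M (psDer p B hB S i)

theorem kS_antitone : Antitone (kS (s := s) p M B hB : Finset B → IntermediateField k M) := by
  intro S T hST x hx
  rw [kS, mem_derKer] at hx ⊢
  rintro (j | ⟨b, hb⟩)
  · exact hx (Sum.inl j)
  · exact hx (Sum.inr ⟨b, hST hb⟩)

include hB in
theorem algebraMap_mem_kS (S : Finset B) (f : MvPowerSeries (Fin s) K₀) (h1 : ∀ j, pderiv K₀ j f = 0)
    (h2 : ∀ b ∈ S, ∀ n, dual p B hB b (coeff n f) = 0) : algebraMap _ M f ∈ kS (s := s) p M B hB S := by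
  rw [kS, mem_derKer]
  rintro (j | ⟨b, hb⟩)
  · rw [toFrac_algebraMap]
    show algebraMap _ M (pderiv K₀ j.down f) = 0
    rw [h1, map_zero]
  · rw [toFrac_algebraMap, show psDer p B hB S (Sum.inr ⟨b, hb⟩) f = 0 from MvPowerSeries.ext fun n => by
      rw [map_zero]; exact h2 b hb n, map_zero]

theorem pow_mem_kS [CharP M p] (S : Finset B) (m : M) : m ^ p ∈ kS (s := s) p M B hB S := by
  rw [kS, mem_derKer]
  intro i
  exact PBasisLib.derivation_pow_eq_zero (p := p) _ m

theorem iInf_kS [CharP M p] {m : ℕ} (b : Fin m → k) (hb : ∀ c : k, ∃ r : Fin m → k, c = ∑ i, r i ^ p * b i) :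
    (⨅ S : Finset B, kS (s := s) p M B hB S ⊔ PBasisLib.Fp p k (∅ : Set M)) = PBasisLib.Fp p k ∅ := by
  classical
  refine le_antisymm (fun x hx => ?_) (le_iInf fun S => le_sup_right)
  rw [PBasisLib.mem_iInf'] at hx
  have hle : ∀ S, PBasisLib.Fp p k (∅ : Set M) ≤ kS (s := s) p M B hB S := fun S => by
    rw [PBasisLib.Fp, IntermediateField.adjoin_le_iff]
    rintro _ (⟨y, rfl⟩ | h)
    · exact pow_mem_kS (s := s) p M B hB S y
    · exact absurd h (Set.notMem_empty _)
  have hxS : ∀ S, x ∈ kS (s := s) p M B hB S := fun S => by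
    have := hx S
    rwa [sup_eq_left.mpr (hle S)] at this
  obtain ⟨a, d, hd, rfl⟩ := IsFractionRing.div_surjective (A := MvPowerSeries (Fin s) K₀) x
  have hd0 : algebraMap _ M d ≠ 0 := IsFractionRing.to_map_ne_zero_of_mem_nonZeroDivisors hd
  let f := a * d ^ (p - 1)
  have hfx : algebraMap _ M f = algebraMap _ M a / algebraMap _ M d * algebraMap _ M d ^ p := by
    obtain ⟨q, hq⟩ : ∃ q, p = q + 1 := ⟨p - 1, by have := hp.out.pos; omega⟩
    simp only [f, hq, Nat.add_sub_cancel, map_mul, map_pow, pow_succ]
    field_simp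
  have hfS : ∀ S, algebraMap _ M f ∈ kS (s := s) p M B hB S := fun S => by
    rw [hfx]; exact mul_mem (hxS S) (pow_mem_kS (s := s) p M B hB S _)
  have hinj : Function.Injective (algebraMap (MvPowerSeries (Fin s) K₀) M) := IsFractionRing.injective _ _
  have hzero : ∀ S i, psDer p B hB S i f = 0 := fun S i => hinj (by
    rw [map_zero, ← toFrac_algebraMap M]
    exact mem_derKer.mp (hfS S) i)
  have hcoeff : ∀ n : Fin s →₀ ℕ, coeff n f ∈ PBasisLib.Fp p k (∅ : Set K₀) ∧ ((∃ j, ¬ p ∣ n j) → coeff n f = 0) := by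
    intro n
    refine ⟨mem_Fp_of_dual_eq_zero p B hB fun b => ?_, fun ⟨j, hj⟩ => ?_⟩
    · have := congrArg (coeff n) (hzero {b} (Sum.inr ⟨b, Finset.mem_singleton_self b⟩))
      rw [map_zero] at this
      exact this
    · have hnj : n j ≠ 0 := fun h => hj (h ▸ dvd_zero p)
      have h := congrArg (coeff (n - Finsupp.single j 1)) (hzero ∅ (Sum.inl ⟨j⟩))
      rw [map_zero] at h
      change coeff (n - Finsupp.single j 1) (pderiv K₀ j f) = 0 at h
      rw [coeff_pderiv, tsub_add_cancel_of_le (Finsupp.single_le_iff.mpr (Nat.one_le_iff_ne_zero.mpr hnj))] at h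
      refine (mul_eq_zero.mp h).resolve_right ?_
      rw [Finsupp.tsub_apply, Finsupp.single_eq_same, ← Nat.cast_add_one,
        Nat.sub_add_cancel (Nat.one_le_iff_ne_zero.mpr hnj), CharP.cast_eq_zero_iff K₀ p]
      exact hj
  choose y hy using fun n => exists_sum_of_mem_Fp p b hb (hcoeff n).1
  let g : Fin m → MvPowerSeries (Fin s) K₀ := fun i q => y (p • q) i
  haveI : ExpChar K₀ p := ExpChar.prime hp.out
  have hf : f = ∑ i, C (algebraMap k K₀ (b i)) * g i ^ p := by
    ext n
    rw [map_sum]
    simp only [coeff_C_mul, ← map_frobenius_expand p hp.out.ne_zero, coeff_map]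
    by_cases hn : ∀ j, p ∣ n j
    · obtain ⟨q, rfl⟩ : ∃ q, p • q = n := ⟨n.mapRange (fun a => a / p) (by simp),
        by ext j; simp [Nat.mul_div_cancel' (hn j)]⟩
      rw [hy (p • q)]
      refine Finset.sum_congr rfl fun i _ => ?_
      rw [coeff_expand_smul, frobenius_def]
      rfl
    · push Not at hn
      obtain ⟨j, hj⟩ := hn
      rw [(hcoeff n).2 ⟨j, hj⟩]
      refine (Finset.sum_eq_zero fun i _ => ?_).symm
      rw [coeff_expand_of_not_dvd _ hp.out.ne_zero _ hj, map_zero, mul_zero]
  have hmemf : algebraMap _ M f ∈ PBasisLib.Fp p k (∅ : Set M) := by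
    rw [hf, map_sum]
    refine sum_mem fun i _ => ?_
    rw [map_mul, map_pow]
    refine mul_mem ?_ (PBasisLib.pow_mem_Fp p k ∅ _)
    rw [show (C (algebraMap k K₀ (b i)) : MvPowerSeries (Fin s) K₀) = algebraMap k _ (b i) from
      (MvPowerSeries.algebraMap_apply).symm, ← IsScalarTower.algebraMap_apply k (MvPowerSeries (Fin s) K₀) M]
    exact IntermediateField.algebraMap_mem _ _
  have hx2 : algebraMap _ M a / algebraMap _ M d = algebraMap _ M f * ((algebraMap _ M d)⁻¹) ^ p := by
    rw [hfx, inv_pow, mul_assoc, mul_inv_cancel₀ (pow_ne_zero _ hd0), mul_one]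
  rw [hx2]
  exact mul_mem hmemf (PBasisLib.pow_mem_Fp p k ∅ _)

end Field

end Groth.Agent.H4NagJac
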