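import Groth.Agent.CartierEq4.Imperf
import Groth.Agent.H4NagJac.LBound
import Mathlib

/-!
# Differentials in a tower over a separable field
-/

set_option linter.style.haveILetI false

universe u

open TensorProduct KaehlerDifferential

namespace Groth.Agent.H4NagJac

theorem mapBaseChange_injective_of_formallySmooth (k M : Type u) [Field k] [Field M] [Algebra k M]
    [Algebra.FormallySmooth k M] : Function.Injective (mapBaseChange ℤ k M) := by
  rw [injective_iff_map_eq_zero]
  intro x hx
  obtain ⟨y, rfl⟩ := (Algebra.H1Cotangent.exact_δ_mapBaseChange ℤ k M x).1 hx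
  rw [Subsingleton.elim y 0, map_zero]

theorem kaehler_tower (k M L : Type u) [Field k] [Field M] [Field L] [Algebra k M] [Algebra M L] [Algebra k L]
    [IsScalarTower k M L] [Algebra.FormallySmooth k M] [Module.Finite M L] :
    Module.Finite L (EGA41.imperfection ℤ k L) ∧
      ∃ z : ℕ, z + Module.finrank L (EGA41.imperfection ℤ k L) = Module.finrank L (Ω[L⁄M]) ∧
        Module.rank L (Ω[L⁄k]) + z = Module.rank L (L ⊗[M] Ω[M⁄k]) + Module.finrank L (Ω[L⁄M]) := by
  classical
  haveI : Algebra.EssFiniteType M L := inferInstance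
  obtain ⟨hΩ, hH, heq⟩ := CartierEq4.finrank_kaehler_eq M L
  haveI := hΩ
  rw [trdeg_eq_zero (R := M) (A := L), map_zero, zero_add, ← CartierEq4.finrank_imperfection_int] at heq
  let dk : Derivation ℤ k (L ⊗[M] Ω[M⁄ℤ]) :=
    ((TensorProduct.mk M L Ω[M⁄ℤ] 1).compDer (KaehlerDifferential.D ℤ M)).compAlgebraMap k
  let i : L ⊗[k] Ω[k⁄ℤ] →ₗ[L] L ⊗[M] Ω[M⁄ℤ] := LinearMap.liftBaseChange L dk.liftKaehlerDifferential
  have hdk : ∀ ω, dk.liftKaehlerDifferential ω = (1 : L) ⊗ₜ[M] KaehlerDifferential.map ℤ ℤ k M ω := fun ω => by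
    have h0 : dk.liftKaehlerDifferential = ((TensorProduct.mk M L Ω[M⁄ℤ] 1).restrictScalars k).comp
        (KaehlerDifferential.map ℤ ℤ k M) := Derivation.liftKaehlerDifferential_unique _ _ (Derivation.ext fun c => by
      simp [dk])
    exact LinearMap.congr_fun h0 ω
  have hi : Function.Injective i := by
    have hinj : Function.Injective ((mapBaseChange ℤ k M).lTensor L) :=
      Module.Flat.lTensor_preserves_injective_linearMap _ (mapBaseChange_injective_of_formallySmooth k M)
    have heqi : ∀ w, i w = (mapBaseChange ℤ k M).lTensor L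
        ((AlgebraTensorModule.cancelBaseChange k M L L Ω[k⁄ℤ]).symm w) := fun w => by
      induction w with
      | zero => simp
      | add a b ha hb => rw [map_add, map_add, map_add, ha, hb]
      | tmul l ω =>
        rw [LinearMap.liftBaseChange_tmul, hdk, AlgebraTensorModule.cancelBaseChange_symm_tmul, LinearMap.lTensor_tmul,
          mapBaseChange_tmul, one_smul, smul_tmul', smul_eq_mul, mul_one]
    intro a b h
    rw [heqi, heqi] at h
    exact (AlgebraTensorModule.cancelBaseChange k M L L Ω[k⁄ℤ]).symm.injective (hinj h)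
  let q : L ⊗[M] Ω[M⁄ℤ] →ₗ[L] L ⊗[M] Ω[M⁄k] := (KaehlerDifferential.map ℤ k M M).baseChange L
  have hq : ∀ z, q z = 0 → ∃ w, i w = z := by
    intro z hz
    obtain ⟨t, rfl⟩ := (lTensor_exact L (exact_mapBaseChange_map ℤ k M) (KaehlerDifferential.map_surjective ℤ k M) z).mp hz
    clear hz
    induction t with
    | zero => exact ⟨0, by simp⟩
    | add a b ha hb =>
      obtain ⟨x, hx⟩ := ha
      obtain ⟨y, hy⟩ := hb
      exact ⟨x + y, by rw [map_add, map_add, hx, hy]⟩
    | tmul l x =>
      induction x with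
      | zero => exact ⟨0, by simp⟩
      | add a b ha hb =>
        obtain ⟨x, hx⟩ := ha
        obtain ⟨y, hy⟩ := hb
        exact ⟨x + y, by rw [tmul_add, map_add, map_add, hx, hy]⟩
      | tmul m ω =>
        refine ⟨(m • l) ⊗ₜ ω, ?_⟩
        rw [LinearMap.liftBaseChange_tmul, LinearMap.lTensor_tmul, mapBaseChange_tmul, tmul_smul, smul_tmul', hdk,
          smul_tmul', smul_eq_mul, mul_one]
  have hqi : ∀ w, q (i w) = 0 := fun w => by
    induction w with
    | zero => simp
    | add a b ha hb => rw [map_add, map_add, ha, hb, add_zero]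
    | tmul l ω =>
      rw [LinearMap.liftBaseChange_tmul, map_smul, hdk]
      have hω : ω ∈ Submodule.span k (Set.range (KaehlerDifferential.D ℤ k)) :=
        (KaehlerDifferential.span_range_derivation ℤ k).symm ▸ Submodule.mem_top
      rw [LinearMap.baseChange_tmul]
      have h0 : KaehlerDifferential.map ℤ k M M (KaehlerDifferential.map ℤ ℤ k M ω) = 0 := by
        induction hω using Submodule.span_induction with
        | mem y hy =>
          obtain ⟨a, rfl⟩ := hy
          simp
        | zero => simp
        | add x y _ _ hx hy => rw [map_add, map_add, hx, hy, add_zero]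
        | smul c x _ hx => rw [map_smul, ← algebraMap_smul M c, map_smul, hx, smul_zero]
      rw [h0, tmul_zero, smul_zero]
  have hri : (mapBaseChange ℤ M L).comp i = mapBaseChange ℤ k L := by
    refine TensorProduct.AlgebraTensorModule.ext fun l ω => ?_
    rw [show l ⊗ₜ[k] ω = l • ((1 : L) ⊗ₜ[k] ω) by rw [TensorProduct.smul_tmul', smul_eq_mul, mul_one],
      map_smul, map_smul]
    congr 1
    have hω : ω ∈ Submodule.span k (Set.range (KaehlerDifferential.D ℤ k)) :=
      (KaehlerDifferential.span_range_derivation ℤ k).symm ▸ Submodule.mem_top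
    induction hω using Submodule.span_induction with
    | mem y hy =>
      obtain ⟨a, rfl⟩ := hy
      simp [i, dk, ← IsScalarTower.algebraMap_apply]
    | zero => simp
    | add x y _ _ hx hy => rw [tmul_add, map_add, map_add, hx, hy]
    | smul c x _ hx => rw [tmul_smul, LinearMap.map_smul_of_tower, LinearMap.map_smul_of_tower, hx]
  let g : L ⊗[M] Ω[M⁄k] →ₗ[L] Ω[L⁄k] := mapBaseChange k M L
  have hcomm : g.comp q = (KaehlerDifferential.map ℤ k L L).comp (mapBaseChange ℤ M L) := by
    refine TensorProduct.AlgebraTensorModule.ext fun l ω => ?_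
    rw [show l ⊗ₜ[M] ω = l • ((1 : L) ⊗ₜ[M] ω) by rw [TensorProduct.smul_tmul', smul_eq_mul, mul_one],
      map_smul, map_smul]
    congr 1
    have hω : ω ∈ Submodule.span M (Set.range (KaehlerDifferential.D ℤ M)) :=
      (KaehlerDifferential.span_range_derivation ℤ M).symm ▸ Submodule.mem_top
    induction hω using Submodule.span_induction with
    | mem y hy =>
      obtain ⟨a, rfl⟩ := hy
      simp [g, q]
    | zero => simp
    | add x y _ _ hx hy => rw [tmul_add, map_add, map_add, hx, hy]
    | smul c x _ hx => rw [tmul_smul, LinearMap.map_smul_of_tower, LinearMap.map_smul_of_tower, hx]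
  let U := EGA41.imperfection ℤ M L
  let W := EGA41.imperfection ℤ k L
  have hqU : ∀ z ∈ U, q z ∈ LinearMap.ker g := fun z hz => by
    rw [LinearMap.mem_ker, ← LinearMap.comp_apply, hcomm, LinearMap.comp_apply,
      show mapBaseChange ℤ M L z = 0 from hz, map_zero]
  let T : U →ₗ[L] LinearMap.ker g := LinearMap.codRestrict _ (q.comp U.subtype) fun z => hqU z.1 z.2
  have hT : Function.Surjective T := by
    rintro ⟨z, hz⟩
    obtain ⟨w, rfl⟩ : ∃ w, q w = z :=
      LinearMap.lTensor_surjective L (KaehlerDifferential.map_surjective ℤ k M) z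
    have hmw : KaehlerDifferential.map ℤ k L L (mapBaseChange ℤ M L w) = 0 := by
      rw [← LinearMap.comp_apply, ← hcomm]
      exact hz
    obtain ⟨u, hu⟩ := (exact_mapBaseChange_map ℤ k L _).1 hmw
    refine ⟨⟨w - i u, ?_⟩, Subtype.ext ?_⟩
    · show mapBaseChange ℤ M L (w - i u) = 0
      rw [map_sub, ← LinearMap.comp_apply _ i, hri, hu, sub_self]
    · show q (w - i u) = q w
      rw [map_sub, hqi, sub_zero]
  have hjU : ∀ w ∈ W, i w ∈ U := fun w hw => by
    show mapBaseChange ℤ M L (i w) = 0
    rw [← LinearMap.comp_apply, hri]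
    exact hw
  let j : W →ₗ[L] LinearMap.ker T :=
    LinearMap.codRestrict _ (LinearMap.codRestrict U (i.comp W.subtype) fun w => hjU w.1 w.2) fun w =>
      Subtype.ext (hqi w.1)
  have hj : Function.Bijective j := by
    refine ⟨fun a b h => Subtype.ext (hi (congrArg (fun y : LinearMap.ker T => ((y : U) : L ⊗[M] Ω[M⁄ℤ])) h)), ?_⟩
    rintro ⟨⟨z, hz⟩, hz'⟩
    obtain ⟨w, rfl⟩ := hq z (congrArg Subtype.val hz')
    refine ⟨⟨w, ?_⟩, rfl⟩
    show mapBaseChange ℤ k L w = 0
    rw [← hri]
    exact hz
  haveI hUf : Module.Finite L ↥U := (CartierEq4.finite_imperfection ℤ M L).1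
  haveI : IsNoetherian L ↥U :=
    @isNoetherian_of_isNoetherianRing_of_finite L ↥U _ U.addCommGroup U.module _ hUf
  haveI : Module.Finite L (LinearMap.ker T) := Module.Finite.of_injective _ (Submodule.injective_subtype _)
  have hW : Module.Finite L W := Module.Finite.equiv (LinearEquiv.ofBijective j hj).symm
  haveI : Module.Finite L (LinearMap.ker g) := Module.Finite.of_surjective T hT
  refine ⟨hW, Module.finrank L (LinearMap.ker g), ?_, ?_⟩
  · have h1 := LinearMap.finrank_range_add_finrank_ker (K := L) (V := ↥U) (V₂ := ↥(LinearMap.ker g)) T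
    rw [LinearMap.range_eq_top.2 hT, finrank_top, ← (LinearEquiv.ofBijective j hj).finrank_eq] at h1
    rw [heq]
    exact h1
  · have h1 := LinearMap.rank_range_add_rank_ker g
    have h2 := LinearMap.rank_range_add_rank_ker (KaehlerDifferential.map k M L L)
    rw [LinearMap.range_eq_top.2 (KaehlerDifferential.map_surjective k M L), rank_top,
      (KaehlerDifferential.exact_mapBaseChange_map k M L).linearMap_ker_eq] at h2
    rw [← h1, Module.finrank_eq_rank L (LinearMap.ker g), ← h2, Module.finrank_eq_rank L (Ω[L⁄M])]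
    show _ + _ + _ = Module.rank L (LinearMap.range g) + _ + _
    rw [add_comm (Module.rank L Ω[L⁄M]), add_right_comm]

end Groth.Agent.H4NagJac
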