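import Groth.Agent.H4NagJac.PSDer
import Groth.Agent.H4NagJac.Tower
import Groth.Agent.CplKaehler4.Finite
import Groth.Agent.CplKaehler4.Rank
import Groth.Agent.S4551
import Groth.Agent.EGA41Lib.FieldFS
import Mathlib

/-!
# The differentials of finite algebras over power series rings
-/

set_option linter.style.haveILetI false
set_option linter.unusedSectionVars false

universe u

open MvPowerSeries
open scoped Classical TensorProduct

namespace Groth.Agent.H4NagJac

variable {k : Type u} [Field k] {s : ℕ}

/-- Derivations over a field finite over its `p`th powers are determined on the variables. -/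
theorem derivation_eq_zero_of_frobenius (p : ℕ) [hp : Fact p.Prime] [CharP k p] {m : ℕ} (b : Fin m → k)
    (hb : ∀ c : k, ∃ r : Fin m → k, c = ∑ i, r i ^ p * b i) {V : Type u} [AddCommGroup V]
    [Module (MvPowerSeries (Fin s) k) V] [Module k V] [IsScalarTower k (MvPowerSeries (Fin s) k) V]
    (E : Derivation k (MvPowerSeries (Fin s) k) V) (hX : ∀ j, E (X j) = 0) (f : MvPowerSeries (Fin s) k) : E f = 0 := by
  haveI : ExpChar k p := ExpChar.prime hp.out
  haveI : CharP (MvPowerSeries (Fin s) k) p :=
    charP_of_injective_algebraMap (algebraMap k (MvPowerSeries (Fin s) k)).injective p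
  choose r hr using hb
  let ex : (Fin s → Fin p) → (Fin s →₀ ℕ) := fun a => Finsupp.equivFunOnFinite.symm fun j => (a j : ℕ)
  let g : (Fin s → Fin p) → Fin m → MvPowerSeries (Fin s) k := fun a i q => r (coeff (p • q + ex a) f) i
  have hcg : ∀ a i q, coeff q (g a i) = r (coeff (p • q + ex a) f) i := fun _ _ _ => rfl
  have hf : f = ∑ a, ∑ i, monomial (ex a) (b i) * g a i ^ p := by
    ext n
    simp only [map_sum]
    let a0 : Fin s → Fin p := fun j => ⟨n j % p, Nat.mod_lt _ hp.out.pos⟩
    have hle : ex a0 ≤ n := fun j => Nat.mod_le _ _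
    rw [Finset.sum_eq_single a0 (fun a _ ha => Finset.sum_eq_zero fun i _ => ?_)
      (fun h => absurd (Finset.mem_univ _) h)]
    · obtain ⟨q, hq⟩ : ∃ q, p • q = n - ex a0 := ⟨(n - ex a0).mapRange (fun c => c / p) (by simp), by
        ext j
        simp only [Finsupp.smul_apply, Finsupp.mapRange_apply, smul_eq_mul, Finsupp.tsub_apply]
        refine Nat.mul_div_cancel' ?_
        show p ∣ n j - n j % p
        exact Nat.dvd_sub_mod _⟩
      have hn : p • q + ex a0 = n := by rw [hq, tsub_add_cancel_of_le hle]
      rw [hr (coeff n f)]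
      refine Finset.sum_congr rfl fun i _ => ?_
      rw [coeff_monomial_mul, if_pos hle, ← hq, ← map_frobenius_expand p hp.out.ne_zero, coeff_map, coeff_expand_smul,
        hcg, hn, frobenius_def, mul_comm]
    · rw [coeff_monomial_mul]
      split_ifs with h1
      · rw [← map_frobenius_expand p hp.out.ne_zero, coeff_map]
        by_cases hd : ∀ j, p ∣ (n - ex a) j
        · exfalso
          refine ha (funext fun j => Fin.ext ?_)
          have hle' : (a j : ℕ) ≤ n j := h1 j
          have hj' : p ∣ n j - (a j : ℕ) := hd j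
          obtain ⟨q, hq⟩ := hj'
          show (a j : ℕ) = n j % p
          rw [show n j = (a j : ℕ) + p * q by omega, Nat.add_mul_mod_self_left, Nat.mod_eq_of_lt (a j).2]
        · push Not at hd
          obtain ⟨j, hj⟩ := hd
          rw [coeff_expand_of_not_dvd _ hp.out.ne_zero _ hj, map_zero, mul_zero]
      · rfl
  have hmul : ∀ x y, E x = 0 → E y = 0 → E (x * y) = 0 := fun x y hx hy => by
    rw [Derivation.leibniz, hx, hy, smul_zero, smul_zero, add_zero]
  rw [hf, map_sum]
  refine Finset.sum_eq_zero fun a _ => ?_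
  rw [map_sum]
  refine Finset.sum_eq_zero fun i _ => hmul _ _ ?_ ?_
  · have hmon : monomial (ex a) (1 : k) = ∏ j, (X j : MvPowerSeries (Fin s) k) ^ (a j : ℕ) := by
      rw [monomial_one_eq, Finsupp.prod_fintype _ _ (fun _ => pow_zero _)]
      rfl
    rw [show monomial (ex a) (b i) = b i • monomial (ex a) (1 : k) by rw [← map_smul, smul_eq_mul, mul_one],
      Derivation.map_smul, hmon]
    have : ∀ T : Finset (Fin s), E (∏ j ∈ T, (X j : MvPowerSeries (Fin s) k) ^ (a j : ℕ)) = 0 := by
      intro T
      induction T using Finset.induction with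
      | empty => simp
      | insert j T hj ih =>
        rw [Finset.prod_insert hj]
        exact hmul _ _ (by rw [Derivation.leibniz_pow, hX, smul_zero, smul_zero]) ih
    rw [this, smul_zero]
  · exact PBasisLib.derivation_pow_eq_zero (p := p) E _

section Frac

variable (M : Type u) [Field M] [Algebra (MvPowerSeries (Fin s) k) M] [IsFractionRing (MvPowerSeries (Fin s) k) M]
  [Algebra k M] [IsScalarTower k (MvPowerSeries (Fin s) k) M]

theorem linearIndependent_D_X :
    LinearIndependent M fun j => KaehlerDifferential.D k M (algebraMap _ M (X j : MvPowerSeries (Fin s) k)) := by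
  rw [Fintype.linearIndependent_iff]
  intro c hc l
  have h := congrArg (toFrac M ((pderiv k l).restrictScalars k)).liftKaehlerDifferential hc
  simp only [map_sum, map_smul, map_zero, Derivation.liftKaehlerDifferential_comp_D, toFrac_algebraMap,
    smul_eq_mul] at h
  rw [Finset.sum_eq_single l (fun i _ hi => by
      rw [show ((pderiv k l).restrictScalars k) (X i : MvPowerSeries (Fin s) k) = 0 from pderiv_X_of_ne hi,
        map_zero, mul_zero]) (fun hh => absurd (Finset.mem_univ l) hh),
    show ((pderiv k l).restrictScalars k) (X l : MvPowerSeries (Fin s) k) = 1 from pderiv_X_self, map_one, mul_one] at h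
  exact h

theorem natCast_le_rank_kaehler : (s : Cardinal.{u}) ≤ Module.rank M (Ω[M⁄k]) := by
  simpa using (linearIndependent_D_X (k := k) (s := s) M).cardinal_lift_le_rank

theorem finrank_kaehler_eq_card (p : ℕ) [hp : Fact p.Prime] [CharP k p] {m : ℕ} (b : Fin m → k)
    (hb : ∀ c : k, ∃ r : Fin m → k, c = ∑ i, r i ^ p * b i) :
    Module.rank M (Ω[M⁄k]) = (s : Cardinal.{u}) := by
  let v : Fin s → Ω[M⁄k] := fun j => KaehlerDifferential.D k M (algebraMap _ M (X j : MvPowerSeries (Fin s) k))
  let W := Submodule.span M (Set.range v)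
  have htop : W = ⊤ := by
    have h0 : W.mkQ.compDer (KaehlerDifferential.D k M) = 0 := by
      refine derivation_fraction_ext (nonZeroDivisors (MvPowerSeries (Fin s) k)) _ _ fun f => ?_
      rw [Derivation.zero_apply]
      exact derivation_eq_zero_of_frobenius p b hb
        ((W.mkQ.compDer (KaehlerDifferential.D k M)).compAlgebraMap (MvPowerSeries (Fin s) k))
        (fun j => (Submodule.Quotient.mk_eq_zero _).mpr (Submodule.subset_span ⟨j, rfl⟩)) f
    rw [eq_top_iff, ← KaehlerDifferential.span_range_derivation, Submodule.span_le]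
    rintro _ ⟨x, rfl⟩
    exact (Submodule.Quotient.mk_eq_zero _).mp (DFunLike.congr_fun h0 x)
  let bas := Module.Basis.mk (linearIndependent_D_X (k := k) (s := s) M) htop.ge
  rw [rank_eq_card_basis bas, Fintype.card_fin]

end Frac

/-- The differentials of the fraction field of a complete local domain. -/
theorem exists_rank_data (k C L : Type u) [Field k] [CommRing C] [IsDomain C] [IsNoetherianRing C] [IsLocalRing C]
    [Algebra k C] [IsAdicComplete (IsLocalRing.maximalIdeal C) C]
    [Module.Finite k (IsLocalRing.ResidueField C)] (n : ℕ) (hn : ringKrullDim C = n)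
    [Field L] [Algebra C L] [IsFractionRing C L] [Algebra k L] [IsScalarTower k C L] :
    Module.Finite L (EGA41.imperfection ℤ k L) ∧
      (n : Cardinal.{u}) + Module.rank L (EGA41.imperfection ℤ k L) ≤ Module.rank L (Ω[L⁄k]) ∧
      ∀ (p : ℕ) [Fact p.Prime] [CharP k p] (m : ℕ) (b : Fin m → k),
        (∀ c : k, ∃ r : Fin m → k, c = ∑ i, r i ^ p * b i) →
        Module.finrank L (Ω[L⁄k]) = n + Module.finrank L (EGA41.imperfection ℤ k L) ∧
          Module.Finite C (Ω[C⁄k]) := by
  obtain ⟨s, t, ht, hdim, hrad⟩ := CohenLib.exists_fin_sop C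
  obtain rfl : s = n := by
    rw [hdim] at hn
    exact_mod_cast hn
  obtain ⟨ψ, -, hψfin, -⟩ := CplKaehler4.exists_algHom_finite k t ht hrad
  haveI : IsRegularLocalRing (MvPowerSeries (Fin s) k) := PSLib.isRegularLocalRing (K := k) (n := s)
  haveI : IsDomain (MvPowerSeries (Fin s) k) := NoZeroDivisors.to_isDomain _
  have hψinj : Function.Injective ψ :=
    CohenLib.injective_of_finite ψ.toRingHom hψfin hdim (PSLib.ringKrullDim_eq (K := k) (n := s)).le
  letI : Algebra (MvPowerSeries (Fin s) k) C := ψ.toRingHom.toAlgebra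
  haveI : IsScalarTower k (MvPowerSeries (Fin s) k) C := IsScalarTower.of_algebraMap_eq fun c => (ψ.commutes c).symm
  haveI : Module.Finite (MvPowerSeries (Fin s) k) C := hψfin
  letI : Algebra (MvPowerSeries (Fin s) k) L := ((algebraMap C L).comp ψ.toRingHom).toAlgebra
  haveI : IsScalarTower (MvPowerSeries (Fin s) k) C L := IsScalarTower.of_algebraMap_eq fun _ => rfl
  haveI : FaithfulSMul (MvPowerSeries (Fin s) k) L := (faithfulSMul_iff_algebraMap_injective _ _).mpr
    ((IsFractionRing.injective C L).comp hψinj)
  let M := FractionRing (MvPowerSeries (Fin s) k)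
  letI : Algebra M L := FractionRing.liftAlgebra (MvPowerSeries (Fin s) k) L
  haveI : IsScalarTower k M L := IsScalarTower.of_algebraMap_eq fun c => by
    rw [IsScalarTower.algebraMap_apply k (MvPowerSeries (Fin s) k) M,
      ← IsScalarTower.algebraMap_apply (MvPowerSeries (Fin s) k) M L, IsScalarTower.algebraMap_apply k C L,
      IsScalarTower.algebraMap_apply (MvPowerSeries (Fin s) k) C L,
      ← IsScalarTower.algebraMap_apply k (MvPowerSeries (Fin s) k) C]
  haveI : Module.Finite M L := CplKaehler4.finite_fractionField (MvPowerSeries (Fin s) k) C M L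
  haveI := Groth.Agent.S4551.result k s
  haveI : Algebra.IsGeometricallyReduced k M := ‹_›
  haveI := EGA41Lib.FieldFS.formallySmooth_of_isGeometricallyReduced k M
  obtain ⟨hfin, z, hz, heq⟩ := kaehler_tower k M L
  rw [Module.rank_baseChange, Cardinal.lift_id] at heq
  haveI := hfin
  refine ⟨hfin, ?_, fun p _ _ m b hb => ?_⟩
  · rw [← Cardinal.add_le_add_iff_of_lt_aleph0 (Cardinal.natCast_lt_aleph0 (n := z)), heq, ← hz,
      ← Module.finrank_eq_rank L (EGA41.imperfection ℤ k L), Nat.cast_add, add_assoc,
      add_comm (Module.finrank L (EGA41.imperfection ℤ k L) : Cardinal.{u})]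
    gcongr
    exact natCast_le_rank_kaehler (s := s) M
  · rw [finrank_kaehler_eq_card (s := s) M p b hb] at heq
    have hlt : Module.rank L (Ω[L⁄k]) < Cardinal.aleph0 := by
      refine lt_of_le_of_lt (le_self_add (b := (z : Cardinal.{u}))) ?_
      rw [heq, ← Nat.cast_add]
      exact Cardinal.natCast_lt_aleph0
    haveI : Module.Finite L (Ω[L⁄k]) := Module.rank_lt_aleph0_iff.mp hlt
    constructor
    · rw [← Module.finrank_eq_rank L (Ω[L⁄k])] at heq
      have h2 : Module.finrank L (Ω[L⁄k]) + z = s + Module.finrank L (Ω[L⁄M]) := by exact_mod_cast heq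
      omega
    · obtain ⟨r, w, hw⟩ := Submodule.fg_iff_exists_fin_generating_family.1
        (Module.Finite.fg_top (R := MvPowerSeries (Fin s) k) (M := C))
      let v : Fin s ⊕ Fin r → Ω[C⁄k] := Sum.elim
        (fun j => KaehlerDifferential.D k C (ψ (X j))) (fun i => KaehlerDifferential.D k C (w i))
      let W := Submodule.span C (Set.range v)
      let E := W.mkQ.compDer (KaehlerDifferential.D k C)
      have hEP : ∀ f, E (algebraMap (MvPowerSeries (Fin s) k) C f) = 0 := fun f =>
        derivation_eq_zero_of_frobenius p b hb (E.compAlgebraMap (MvPowerSeries (Fin s) k))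
          (fun j => (Submodule.Quotient.mk_eq_zero _).mpr (Submodule.subset_span ⟨Sum.inl j, rfl⟩)) f
      have hE : ∀ c, E c = 0 := fun c => by
        obtain ⟨a, rfl⟩ := (Submodule.mem_span_range_iff_exists_fun _).1 (hw ▸ (Submodule.mem_top : c ∈ ⊤))
        rw [map_sum]
        refine Finset.sum_eq_zero fun i _ => ?_
        rw [Algebra.smul_def, Derivation.leibniz, hEP, smul_zero, add_zero,
          show E (w i) = 0 from (Submodule.Quotient.mk_eq_zero _).mpr (Submodule.subset_span ⟨Sum.inr i, rfl⟩),
          smul_zero]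
      have htop : W = ⊤ := by
        rw [eq_top_iff, ← KaehlerDifferential.span_range_derivation, Submodule.span_le]
        rintro _ ⟨x, rfl⟩
        exact (Submodule.Quotient.mk_eq_zero _).mp (hE x)
      exact ⟨htop ▸ Submodule.fg_span (Set.finite_range v)⟩

end Groth.Agent.H4NagJac
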