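import Groth.Agent.H4NagJac.PSDer
import Mathlib

/-!
# The differentials of the power series field over the kernel fields
-/

set_option linter.style.haveILetI false

universe u

open MvPowerSeries EGA41
open scoped Classical

namespace Groth.Agent.H4NagJac

variable {k K₀ : Type u} [Field k] [Field K₀] [Algebra k K₀] (p : ℕ) [hp : Fact p.Prime] [CharP K₀ p] {s : ℕ}
  (M : Type u) [Field M] [Algebra (MvPowerSeries (Fin s) K₀) M] [IsFractionRing (MvPowerSeries (Fin s) K₀) M]
  [Algebra k M] [IsScalarTower k (MvPowerSeries (Fin s) K₀) M]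
  (B : Set K₀) (hB : IsPBasis p k (Subtype.val : B → K₀))

include hB in
theorem exists_finite_adjoin (S : Finset B) :
    ∃ (N : ℕ) (e : Fin N → K₀) (r : K₀ → Fin N → K₀),
      (∀ i, e i ∈ Algebra.adjoin (derKer fun b : S => dual p B hB b.1) ((Subtype.val : B → K₀) '' (S : Set B))) ∧
      (∀ c i, ∀ b ∈ S, dual p B hB b (r c i) = 0) ∧ r 0 = 0 ∧ ∀ c, c = ∑ i, r c i * e i := by
  let KS := derKer fun b : S => dual p B hB b.1
  let T : Set K₀ := (Subtype.val : B → K₀) '' (S : Set B)
  have hpow : ∀ y : K₀, y ^ p ∈ KS := fun y b => PBasisLib.derivation_pow_eq_zero (p := p) _ y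
  have hint : ∀ t ∈ T, IsIntegral KS t := fun t _ =>
    ⟨Polynomial.X ^ p - Polynomial.C ⟨t ^ p, hpow t⟩, Polynomial.monic_X_pow_sub_C _ hp.out.ne_zero, by
      rw [Polynomial.eval₂_sub, Polynomial.eval₂_X_pow, Polynomial.eval₂_C]
      exact sub_self _⟩
  have htop : IntermediateField.adjoin KS T = ⊤ := by
    refine eq_top_iff.mpr fun y _ => ?_
    have h1 : PBasisLib.Fp p k B ≤ (IntermediateField.adjoin KS T).restrictScalars k := by
      rw [PBasisLib.Fp, IntermediateField.adjoin_le_iff]
      rintro z (⟨w, rfl⟩ | hz)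
      · exact (IntermediateField.adjoin KS T).algebraMap_mem ⟨_, hpow w⟩
      · by_cases h : (⟨z, hz⟩ : B) ∈ S
        · exact IntermediateField.subset_adjoin KS T ⟨⟨z, hz⟩, h, rfl⟩
        · refine (IntermediateField.adjoin KS T).algebraMap_mem ⟨z, fun b => ?_⟩
          exact dual_of_ne p B hB (b := b.1) (c := ⟨z, hz⟩) fun e => h (e ▸ b.2)
    have h2 : PBasisLib.Fp p k B = ⊤ := by
      have := (PBasisLib.isPGenerating_iff_Fp p k (Subtype.val : B → K₀)).mp hB.2
      rwa [Subtype.range_coe] at this
    exact h1 (h2 ▸ IntermediateField.mem_top)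
  have hfin : FiniteDimensional KS (IntermediateField.adjoin KS T) :=
    haveI : Finite T := (S.finite_toSet.image _).to_subtype
    IntermediateField.finiteDimensional_adjoin hint
  rw [htop] at hfin
  haveI : FiniteDimensional KS K₀ := Module.Finite.equiv IntermediateField.topEquiv.toLinearEquiv
  let bb := Module.finBasis KS K₀
  refine ⟨Module.finrank KS K₀, bb, fun c i => (bb.repr c i : K₀), fun i => ?_, fun c i b hb => (bb.repr c i).2 ⟨b, hb⟩,
    by funext i; simp, fun c => ?_⟩
  · have h3 : (IntermediateField.adjoin KS T).toSubalgebra = Algebra.adjoin KS T :=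
      IntermediateField.adjoin_toSubalgebra_of_isAlgebraic (fun t ht => (hint t ht).isAlgebraic)
    show bb i ∈ Algebra.adjoin KS T
    rw [← h3, htop]
    trivial
  · conv_lhs => rw [← bb.sum_repr c]
    rfl

theorem derivation_eq_zero_of_generators [CharP M p] (S : Finset B) {V : Type u} [AddCommGroup V] [Module M V]
    (E : Derivation (kS (s := s) p M B hB S) M V)
    (hX : ∀ j, E (algebraMap _ M (X j : MvPowerSeries (Fin s) K₀)) = 0)
    (hS : ∀ b ∈ S, E (algebraMap _ M (C (b : K₀) : MvPowerSeries (Fin s) K₀)) = 0) : E = 0 := by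
  obtain ⟨N, e, r, he, hr, hr0, hsum⟩ := exists_finite_adjoin p B hB S
  set P := MvPowerSeries (Fin s) K₀
  have hker : ∀ f : P, (∀ j, pderiv K₀ j f = 0) → (∀ b ∈ S, ∀ n, dual p B hB b (coeff n f) = 0) →
      E (algebraMap P M f) = 0 := fun f h1 h2 =>
    Derivation.map_algebraMap E (⟨_, algebraMap_mem_kS p M B hB S f h1 h2⟩ : kS (s := s) p M B hB S)
  have hmul : ∀ f g : P, E (algebraMap P M f) = 0 → E (algebraMap P M g) = 0 → E (algebraMap P M (f * g)) = 0 := by
    intro f g hf hg
    rw [map_mul, Derivation.leibniz, hf, hg, smul_zero, smul_zero, add_zero]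
  have hC : ∀ c : K₀, c ∈ Algebra.adjoin (derKer fun b : S => dual p B hB b.1) ((Subtype.val : B → K₀) '' (S : Set B)) →
      E (algebraMap P M (C c)) = 0 := by
    intro c hc
    induction hc using Algebra.adjoin_induction with
    | mem x hx => obtain ⟨b, hb, rfl⟩ := hx; exact hS b hb
    | algebraMap x =>
      refine hker _ (fun j => pderiv_C) fun b hb n => ?_
      rw [coeff_C]
      split_ifs
      · exact x.2 ⟨b, hb⟩
      · exact map_zero _
    | add x y _ _ hx hy => rw [map_add, map_add, map_add, hx, hy, add_zero]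
    | mul x y _ _ hx hy => rw [map_mul]; exact hmul _ _ hx hy
  have hP : ∀ f : P, E (algebraMap P M f) = 0 := by
    intro f
    let ex : (Fin s → Fin p) → (Fin s →₀ ℕ) := fun a => Finsupp.equivFunOnFinite.symm fun j => (a j : ℕ)
    let g : (Fin s → Fin p) → Fin N → P := fun a i n => if (∀ j, p ∣ n j) then r (coeff (n + ex a) f) i else 0
    have hcg : ∀ a i n, coeff n (g a i) = if (∀ j, p ∣ n j) then r (coeff (n + ex a) f) i else 0 := fun a i n => rfl
    have hf : f = ∑ a, ∑ i, monomial (ex a) (e i) * g a i := by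
      ext n
      rw [map_sum]
      simp only [map_sum]
      let a0 : Fin s → Fin p := fun j => ⟨n j % p, Nat.mod_lt _ hp.out.pos⟩
      have hle : ex a0 ≤ n := fun j => by
        show n j % p ≤ n j
        exact Nat.mod_le _ _
      rw [Finset.sum_eq_single a0 (fun a _ ha => Finset.sum_eq_zero fun i _ => ?_)
        (fun h => absurd (Finset.mem_univ _) h)]
      · have hdiv : ∀ j, p ∣ (n - ex a0) j := fun j => by
          rw [Finsupp.tsub_apply]
          show p ∣ n j - n j % p
          exact Nat.dvd_sub_mod _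
        rw [hsum (coeff n f)]
        refine Finset.sum_congr rfl fun i _ => ?_
        rw [coeff_monomial_mul, hcg, if_pos hle, if_pos hdiv, tsub_add_cancel_of_le hle, mul_comm]
      · rw [coeff_monomial_mul, hcg]
        split_ifs with h1 h2
        · exfalso
          apply ha
          funext j
          apply Fin.ext
          show (a j : ℕ) = n j % p
          have hj := h2 j
          rw [Finsupp.tsub_apply] at hj
          have hle' : (a j : ℕ) ≤ n j := h1 j
          have hj' : p ∣ n j - (a j : ℕ) := hj
          obtain ⟨q, hq⟩ := hj'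
          rw [show n j = (a j : ℕ) + p * q by omega, Nat.add_mul_mod_self_left, Nat.mod_eq_of_lt (a j).2]
        · rw [mul_zero]
        · rfl
    rw [hf, map_sum, map_sum]
    refine Finset.sum_eq_zero fun a _ => ?_
    rw [map_sum, map_sum]
    refine Finset.sum_eq_zero fun i _ => hmul _ _ ?_ (hker _ (fun j => ?_) fun b hb n => ?_)
    · rw [show monomial (ex a) (e i) = C (e i) * (∏ j, (X j : P) ^ (a j : ℕ)) from ?_]
      · refine hmul _ _ (hC _ (he i)) ?_
        have : ∀ T : Finset (Fin s), E (algebraMap P M (∏ j ∈ T, (X j : P) ^ (a j : ℕ))) = 0 := by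
          intro T
          induction T using Finset.induction with
          | empty => simp
          | insert j T hj ih =>
            rw [Finset.prod_insert hj]
            refine hmul _ _ ?_ ih
            rw [map_pow, Derivation.leibniz_pow, hX, smul_zero, smul_zero]
        exact this _
      · have hmon : monomial (ex a) (1 : K₀) = ∏ j, (X j : P) ^ (a j : ℕ) := by
          rw [monomial_one_eq, Finsupp.prod_fintype _ _ (fun _ => pow_zero _)]
          rfl
        rw [← hmon, ← monomial_zero_eq_C_apply, monomial_mul_monomial, zero_add, mul_one]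
    · ext n
      rw [coeff_pderiv, hcg, map_zero]
      split_ifs with h
      · have hj := h j
        rw [Finsupp.add_apply, Finsupp.single_eq_same] at hj
        rw [show ((n j : K₀) + 1) = ((n j + 1 : ℕ) : K₀) by push_cast; rfl,
          (CharP.cast_eq_zero_iff K₀ p _).mpr hj, mul_zero]
      · rw [zero_mul]
    · rw [hcg]
      split_ifs
      · exact hr _ i b hb
      · exact map_zero _
  refine Derivation.ext fun x => ?_
  obtain ⟨a, d, hd, rfl⟩ := IsFractionRing.div_surjective (A := P) x
  rw [div_eq_mul_inv, Derivation.leibniz, Derivation.leibniz_inv, hP, hP, smul_zero, smul_zero, smul_zero, add_zero,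
    Derivation.zero_apply]

theorem finrank_kaehler_kS_le [CharP M p] (S : Finset B) :
    Module.Finite M (Ω[M⁄kS (s := s) p M B hB S]) ∧
      Module.finrank M (Ω[M⁄kS (s := s) p M B hB S]) ≤ s + S.card := by
  let Ω' := Ω[M⁄kS (s := s) p M B hB S]
  let v : Fin s ⊕ S → Ω' := Sum.elim
    (fun j => KaehlerDifferential.D _ M (algebraMap _ M (X j : MvPowerSeries (Fin s) K₀)))
    (fun b => KaehlerDifferential.D _ M (algebraMap _ M (C ((b : B) : K₀) : MvPowerSeries (Fin s) K₀)))
  let W := Submodule.span M (Set.range v)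
  have htop : W = ⊤ := by
    have h0 := derivation_eq_zero_of_generators p M B hB S (W.mkQ.compDer (KaehlerDifferential.D _ M))
      (fun j => (Submodule.Quotient.mk_eq_zero _).mpr (Submodule.subset_span ⟨Sum.inl j, rfl⟩))
      (fun b hb => (Submodule.Quotient.mk_eq_zero _).mpr (Submodule.subset_span ⟨Sum.inr ⟨b, hb⟩, rfl⟩))
    rw [eq_top_iff, ← KaehlerDifferential.span_range_derivation, Submodule.span_le]
    rintro _ ⟨x, rfl⟩
    exact (Submodule.Quotient.mk_eq_zero _).mp (DFunLike.congr_fun h0 x)
  refine ⟨⟨htop ▸ Submodule.fg_span (Set.finite_range v)⟩, ?_⟩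
  rw [← finrank_top, ← htop]
  exact (finrank_range_le_card v).trans_eq (by simp)

end Groth.Agent.H4NagJac
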