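import Groth.Agent.RegFS6.SepResidue
import Groth.Agent.S4551
import Mathlib

/-!
# Separability of the residue field
-/

set_option linter.style.haveILetI false

universe u

namespace Groth.Agent.H4NagJac

theorem isGeometricallyReduced_residueField {k S L : Type u} [Field k] [CommRing S] [Algebra k S] [Field L]
    [Algebra k L] [Algebra.IsGeometricallyReduced k L] (P : Ideal S) [P.IsPrime] (h : S →ₐ[k] L)
    (hker : RingHom.ker h.toRingHom = P) :
    Algebra.IsGeometricallyReduced k (IsLocalRing.ResidueField (Localization.AtPrime P)) := by
  let h' : (S ⧸ P) →ₐ[k] L := Ideal.Quotient.liftₐ P h fun a ha => by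
    have : a ∈ RingHom.ker h.toRingHom := hker ▸ ha
    exact this
  have hh : Function.Injective h' := RingHom.lift_injective_of_ker_le_ideal P
    (f := h.toRingHom) _ hker.le
  let g : P.ResidueField →ₐ[k] L := IsFractionRing.liftAlgHom (A := S ⧸ P) hh
  exact Algebra.IsGeometricallyReduced.of_injective g g.toRingHom.injective

theorem isGeometricallyReduced_of_separable_over_powerSeries {k : Type u} [Field k] (s : ℕ) (L' L : Type u)
    [Field L'] [Field L] [Algebra k L'] [Algebra k L] [Algebra (MvPowerSeries (Fin s) k) L']
    [IsScalarTower k (MvPowerSeries (Fin s) k) L'] [IsFractionRing (MvPowerSeries (Fin s) k) L'] [Algebra L' L]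
    [IsScalarTower k L' L] [Algebra.IsSeparable L' L] :
    Algebra.IsGeometricallyReduced k L := by
  haveI := Groth.Agent.S4551.result k s
  let e := (FractionRing.algEquiv (MvPowerSeries (Fin s) k) L').restrictScalars k
  haveI : Algebra.IsGeometricallyReduced k L' :=
    Algebra.IsGeometricallyReduced.of_injective e.symm.toAlgHom e.symm.injective
  haveI := EGA41Lib.FieldFS.formallySmooth_of_isGeometricallyReduced k L'
  haveI : Algebra.FormallyEtale L' L := Algebra.FormallyEtale.of_isSeparable L' L
  haveI : Algebra.FormallySmooth k L := Algebra.FormallySmooth.comp k L' L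
  exact EGA41Lib.FieldFS.isGeometricallyReduced_of_formallySmooth k L

end Groth.Agent.H4NagJac
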