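import Groth.Agent.H4NagJac.PSSpan
import Groth.Agent.PSLib.Regular
import Mathlib

/-!
# Finite-index subrings of a power series ring cutting out the `p`th powers
-/

set_option linter.style.haveILetI false
set_option linter.unusedSectionVars false

universe u

open MvPowerSeries EGA41
open scoped Classical

namespace Groth.Agent.H4NagJac

variable {k K₀ : Type u} [Field k] [Field K₀] [Algebra k K₀] (p : ℕ) [hp : Fact p.Prime] [CharP K₀ p] {s : ℕ}
  (M : Type u) [Field M] [Algebra (MvPowerSeries (Fin s) K₀) M] [IsFractionRing (MvPowerSeries (Fin s) K₀) M]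
  [Algebra k M] [IsScalarTower k (MvPowerSeries (Fin s) K₀) M]
  (B : Set K₀) (hB : IsPBasis p k (Subtype.val : B → K₀))

/-- The power series in a kernel field. -/
noncomputable def subS (S : Finset B) : Subring (MvPowerSeries (Fin s) K₀) :=
  (kS (s := s) p M B hB S).toSubalgebra.toSubring.comap (algebraMap (MvPowerSeries (Fin s) K₀) M)

theorem mem_subS_iff (S : Finset B) (f : MvPowerSeries (Fin s) K₀) :
    f ∈ subS (s := s) p M B hB S ↔ algebraMap (MvPowerSeries (Fin s) K₀) M f ∈ kS (s := s) p M B hB S := Iff.rfl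

theorem mem_subS_iff_coeff (S : Finset B) (f : MvPowerSeries (Fin s) K₀) :
    f ∈ subS (s := s) p M B hB S ↔ ∀ n : Fin s →₀ ℕ, (∀ b ∈ S, dual p B hB b (coeff n f) = 0) ∧
      ((∃ j, ¬ p ∣ n j) → coeff n f = 0) := by
  rw [mem_subS_iff]
  constructor
  · intro h
    have hinj : Function.Injective (algebraMap (MvPowerSeries (Fin s) K₀) M) := IsFractionRing.injective _ _
    have hzero : ∀ i, psDer p B hB S i f = 0 := fun i => hinj (by
      rw [map_zero, ← toFrac_algebraMap M]
      exact mem_derKer.mp h i)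
    refine fun n => ⟨fun b hb => ?_, fun ⟨j, hj⟩ => ?_⟩
    · have := congrArg (coeff n) (hzero (Sum.inr ⟨b, hb⟩))
      rw [map_zero] at this
      exact this
    · have hnj : n j ≠ 0 := fun h => hj (h ▸ dvd_zero p)
      have h1 := congrArg (coeff (n - Finsupp.single j 1)) (hzero (Sum.inl ⟨j⟩))
      rw [map_zero] at h1
      change coeff (n - Finsupp.single j 1) (pderiv K₀ j f) = 0 at h1
      rw [coeff_pderiv, tsub_add_cancel_of_le (Finsupp.single_le_iff.mpr (Nat.one_le_iff_ne_zero.mpr hnj))] at h1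
      refine (mul_eq_zero.mp h1).resolve_right ?_
      rw [Finsupp.tsub_apply, Finsupp.single_eq_same, ← Nat.cast_add_one,
        Nat.sub_add_cancel (Nat.one_le_iff_ne_zero.mpr hnj), CharP.cast_eq_zero_iff K₀ p]
      exact hj
  · intro h
    refine algebraMap_mem_kS p M B hB S f (fun j => ?_) fun b hb n => (h n).1 b hb
    ext n
    rw [coeff_pderiv, map_zero]
    by_cases hj : p ∣ n j + 1
    · rw [show ((n j : K₀) + 1) = ((n j + 1 : ℕ) : K₀) by push_cast; rfl,
        (CharP.cast_eq_zero_iff K₀ p _).mpr hj, mul_zero]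
    · rw [(h _).2 ⟨j, by rwa [Finsupp.add_apply, Finsupp.single_eq_same]⟩, zero_mul]

theorem pow_mem_subS [CharP M p] (S : Finset B) (f : MvPowerSeries (Fin s) K₀) :
    f ^ p ∈ subS (s := s) p M B hB S := by
  rw [mem_subS_iff, map_pow]
  exact pow_mem_kS (s := s) p M B hB S _

theorem isNoetherianRing_subS (S : Finset B) : IsNoetherianRing (subS (s := s) p M B hB S) := by
  let KS := derKer fun b : S => dual p B hB b.1
  let φ : MvPowerSeries (Fin s) KS →+* MvPowerSeries (Fin s) K₀ :=
    (MvPowerSeries.expand p hp.out.ne_zero).toRingHom.comp (MvPowerSeries.map (algebraMap KS K₀))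
  have hφ : ∀ g, φ g ∈ subS (s := s) p M B hB S := fun g => by
    rw [mem_subS_iff_coeff]
    intro n
    by_cases hn : ∀ j, p ∣ n j
    · obtain ⟨q, rfl⟩ : ∃ q, p • q = n := ⟨n.mapRange (fun a => a / p) (by simp),
        by ext j; simp [Nat.mul_div_cancel' (hn j)]⟩
      refine ⟨fun b hb => ?_, fun ⟨j, hj⟩ => absurd (hn j) hj⟩
      show dual p B hB b (coeff (p • q) (MvPowerSeries.expand p hp.out.ne_zero (MvPowerSeries.map (algebraMap KS K₀) g))) = 0
      rw [coeff_expand_smul, coeff_map]
      exact (coeff q g).2 ⟨b, hb⟩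
    · push Not at hn
      obtain ⟨j, hj⟩ := hn
      have h0 : coeff n (φ g) = 0 := coeff_expand_of_not_dvd _ hp.out.ne_zero _ hj
      exact ⟨fun b _ => by rw [h0, map_zero], fun _ => h0⟩
  have hsurj : Function.Surjective (φ.codRestrict (subS (s := s) p M B hB S) hφ) := by
    rintro ⟨f, hf⟩
    have hf' := (mem_subS_iff_coeff p M B hB S f).mp hf
    let g : MvPowerSeries (Fin s) KS := fun q => ⟨coeff (p • q) f, fun b => (hf' _).1 b.1 b.2⟩
    refine ⟨g, Subtype.ext ?_⟩
    show φ g = f
    ext n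
    by_cases hn : ∀ j, p ∣ n j
    · obtain ⟨q, rfl⟩ : ∃ q, p • q = n := ⟨n.mapRange (fun a => a / p) (by simp),
        by ext j; simp [Nat.mul_div_cancel' (hn j)]⟩
      show coeff (p • q) (MvPowerSeries.expand p hp.out.ne_zero (MvPowerSeries.map (algebraMap KS K₀) g)) = _
      rw [coeff_expand_smul, coeff_map]
      rfl
    · push Not at hn
      obtain ⟨j, hj⟩ := hn
      show coeff n (MvPowerSeries.expand p hp.out.ne_zero (MvPowerSeries.map (algebraMap KS K₀) g)) = _
      rw [coeff_expand_of_not_dvd _ hp.out.ne_zero _ hj, (hf' n).2 ⟨j, hj⟩]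
  haveI : IsNoetherianRing (MvPowerSeries (Fin s) KS) := by
    have := PSLib.isRegularLocalRing (K := KS) (n := s)
    infer_instance
  exact isNoetherianRing_of_surjective _ _ _ hsurj

theorem free_finite_subS (S : Finset B) :
    Module.Free (subS (s := s) p M B hB S) (MvPowerSeries (Fin s) K₀) ∧
      Module.Finite (subS (s := s) p M B hB S) (MvPowerSeries (Fin s) K₀) := by
  let KS := derKer fun b : S => dual p B hB b.1
  obtain ⟨N₀, e₀, r₀, -, hr₀, -, hsum₀⟩ := exists_finite_adjoin p B hB S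
  haveI : Module.Finite KS K₀ := by
    refine Module.Finite.of_surjective (Fintype.linearCombination KS e₀) fun c => ⟨fun i => ⟨r₀ c i, fun b => hr₀ c i b.1 b.2⟩, ?_⟩
    rw [Fintype.linearCombination_apply]
    exact (hsum₀ c).symm
  let bb := Module.finBasis KS K₀
  let ex : (Fin s → Fin p) → (Fin s →₀ ℕ) := fun a => Finsupp.equivFunOnFinite.symm fun j => (a j : ℕ)
  let v : (Fin s → Fin p) × Fin (Module.finrank KS K₀) → MvPowerSeries (Fin s) K₀ := fun ai =>
    monomial (ex ai.1) (bb ai.2)
  have key : ∀ (g : (Fin s → Fin p) × Fin (Module.finrank KS K₀) → MvPowerSeries (Fin s) K₀),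
      (∀ ai n, (∃ j, ¬ p ∣ n j) → coeff n (g ai) = 0) → ∀ (n : Fin s →₀ ℕ) (a0 : Fin s → Fin p),
      (∀ j, (a0 j : ℕ) = n j % p) →
      coeff n (∑ ai, g ai * v ai) = ∑ i, coeff (n - ex a0) (g (a0, i)) * bb i := by
    intro g hg n a0 ha0
    rw [map_sum, Fintype.sum_prod_type, Finset.sum_eq_single a0 (fun a _ ha => Finset.sum_eq_zero fun i _ => ?_)
      (fun h => absurd (Finset.mem_univ _) h)]
    · refine Finset.sum_congr rfl fun i _ => ?_
      have hle : ex a0 ≤ n := fun j => by
        show (a0 j : ℕ) ≤ n j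
        rw [ha0]
        exact Nat.mod_le _ _
      rw [mul_comm (g _), coeff_monomial_mul, if_pos hle, mul_comm]
    · rw [mul_comm (g _), coeff_monomial_mul]
      split_ifs with h1
      · rw [hg _ _ ?_, mul_zero]
        by_contra hcon
        push Not at hcon
        refine ha (funext fun j => Fin.ext ?_)
        have hle' : (a j : ℕ) ≤ n j := h1 j
        have hj' : p ∣ n j - (a j : ℕ) := hcon j
        obtain ⟨q, hq⟩ := hj'
        rw [ha0, show n j = (a j : ℕ) + p * q by omega, Nat.add_mul_mod_self_left, Nat.mod_eq_of_lt (a j).2]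
      · rfl
  have hli : LinearIndependent (subS (s := s) p M B hB S) v := by
    rw [Fintype.linearIndependent_iff]
    intro g hg ai
    refine Subtype.ext (MvPowerSeries.ext fun n => ?_)
    show coeff n (g ai : MvPowerSeries (Fin s) K₀) = coeff n 0
    rw [map_zero]
    have hg' := fun ai => (mem_subS_iff_coeff p M B hB S _).mp (g ai).2
    by_cases hn : ∀ j, p ∣ n j
    · have h := key (fun ai => (g ai : MvPowerSeries (Fin s) K₀)) (fun ai m => (hg' ai m).2) (n + ex ai.1) ai.1
        (fun j => by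
          show (ai.1 j : ℕ) = (n j + (ai.1 j : ℕ)) % p
          obtain ⟨q, hq⟩ := hn j
          rw [hq, Nat.mul_add_mod, Nat.mod_eq_of_lt (ai.1 j).2])
      rw [show (∑ ai, (g ai : MvPowerSeries (Fin s) K₀) * v ai) = 0 from hg, map_zero, add_tsub_cancel_right] at h
      have hc := Fintype.linearIndependent_iff.mp bb.linearIndependent
        (fun i => ⟨coeff n (g (ai.1, i) : MvPowerSeries (Fin s) K₀), fun b => (hg' _ n).1 b.1 b.2⟩) h.symm ai.2
      exact congrArg Subtype.val hc
    · push Not at hn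
      exact (hg' ai n).2 hn
  have hsp : ⊤ ≤ Submodule.span (subS (s := s) p M B hB S) (Set.range v) := by
    intro f _
    rw [Submodule.mem_span_range_iff_exists_fun]
    let g : (Fin s → Fin p) × Fin (Module.finrank KS K₀) → MvPowerSeries (Fin s) K₀ := fun ai n =>
      if (∀ j, p ∣ n j) then (bb.repr (coeff (n + ex ai.1) f) ai.2 : K₀) else 0
    have hcg : ∀ ai n, coeff n (g ai) =
        if (∀ j, p ∣ n j) then (bb.repr (coeff (n + ex ai.1) f) ai.2 : K₀) else 0 := fun _ _ => rfl
    have hgmem : ∀ ai, g ai ∈ subS (s := s) p M B hB S := fun ai => by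
      rw [mem_subS_iff_coeff]
      intro n
      rw [hcg]
      split_ifs with h
      · exact ⟨fun b hb => (bb.repr (coeff (n + ex ai.1) f) ai.2).2 ⟨b, hb⟩, fun ⟨j, hj⟩ => absurd (h j) hj⟩
      · exact ⟨fun b _ => map_zero _, fun _ => rfl⟩
    refine ⟨fun ai => ⟨g ai, hgmem ai⟩, MvPowerSeries.ext fun n => ?_⟩
    show coeff n (∑ ai, g ai * v ai) = _
    have h := key g (fun ai m hm => by
      rw [hcg, if_neg]
      exact fun h => hm.elim fun j hj => hj (h j)) n (fun j => ⟨n j % p, Nat.mod_lt _ hp.out.pos⟩) (fun j => rfl)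
    rw [h]
    have hle : ex (fun j => ⟨n j % p, Nat.mod_lt _ hp.out.pos⟩) ≤ n := fun j => Nat.mod_le _ _
    have hdiv : ∀ j, p ∣ (n - ex (fun j => ⟨n j % p, Nat.mod_lt _ hp.out.pos⟩)) j := fun j => by
      rw [Finsupp.tsub_apply]
      show p ∣ n j - n j % p
      exact Nat.dvd_sub_mod _
    conv_rhs => rw [← bb.sum_repr (coeff n f)]
    refine Finset.sum_congr rfl fun i _ => ?_
    rw [hcg, if_pos hdiv, tsub_add_cancel_of_le hle]
    rfl
  let bas := Module.Basis.mk hli hsp
  exact ⟨Module.Free.of_basis bas, Module.Finite.of_basis bas⟩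

theorem iInf_closure_subS [CharP M p] {m : ℕ} (b : Fin m → k) (hb : ∀ c : k, ∃ r : Fin m → k, c = ∑ i, r i ^ p * b i)
    (hk : ∀ c : k, ∃ y : M, algebraMap k M c = y ^ p) :
    ((⨅ S : Finset B, Subfield.closure (algebraMap (MvPowerSeries (Fin s) K₀) M '' (subS (s := s) p M B hB S))) : Set M) =
      Set.range fun x : M => x ^ p := by
  haveI : ExpChar M p := ExpChar.prime hp.out
  ext x
  simp only [Set.iInf_eq_iInter, Set.mem_iInter, SetLike.mem_coe]
  constructor
  · intro hx
    have hxS : ∀ S, x ∈ kS (s := s) p M B hB S := fun S => by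
      have hle : Subfield.closure (algebraMap (MvPowerSeries (Fin s) K₀) M '' (subS (s := s) p M B hB S)) ≤
          (kS (s := s) p M B hB S).toSubfield := Subfield.closure_le.2 (by rintro _ ⟨f, hf, rfl⟩; exact hf)
      exact hle (hx S)
    have h1 : x ∈ PBasisLib.Fp p k (∅ : Set M) := by
      rw [← iInf_kS (s := s) p M B hB b hb, PBasisLib.mem_iInf']
      exact fun S => le_sup_left (a := kS (s := s) p M B hB S) (hxS S)
    have h2 : PBasisLib.Fp p k (∅ : Set M) ≤
        (frobenius M p).fieldRange.toIntermediateField (fun c => by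
          obtain ⟨y, hy⟩ := hk c
          exact ⟨y, hy.symm⟩) := by
      rw [PBasisLib.Fp, IntermediateField.adjoin_le_iff]
      rintro _ (⟨y, rfl⟩ | h)
      · exact ⟨y, rfl⟩
      · exact absurd h (Set.notMem_empty _)
    exact h2 h1
  · rintro ⟨y, rfl⟩ S
    obtain ⟨a, d, hd, rfl⟩ := IsFractionRing.div_surjective (A := MvPowerSeries (Fin s) K₀) y
    show (_ / _) ^ p ∈ _
    rw [div_pow, ← map_pow, ← map_pow]
    exact div_mem (Subfield.subset_closure ⟨_, pow_mem_subS p M B hB S a, rfl⟩)
      (Subfield.subset_closure ⟨_, pow_mem_subS p M B hB S d, rfl⟩)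

end Groth.Agent.H4NagJac
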